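import Groth.Agent.LcFinLib.Compare

/-!
Maps that kill local cohomology at every point of `T`: a long enough composite kills `H_T`.
-/

set_option autoImplicit false
set_option linter.unusedSectionVars false
set_option maxHeartbeats 1000000
universe u

noncomputable section

open CategoryTheory CategoryTheory.Limits
open Groth.Agent

namespace BootDualLib

open LcFinLib

variable {A : Type u} [CommRing A]

/-- The induced map on the injective hulls. -/
def underMap {M N : ModuleCat.{u} A} (f : M ⟶ N) : Injective.under M ⟶ Injective.under N :=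
  Injective.factorThru (f ≫ Injective.ι N) (Injective.ι M)

theorem comp_underMap {M N : ModuleCat.{u} A} (f : M ⟶ N) :
    Injective.ι M ≫ underMap f = f ≫ Injective.ι N :=
  Injective.comp_factorThru _ _

/-- The induced map on the first cosyzygies. -/
def cokMap {M N : ModuleCat.{u} A} (f : M ⟶ N) : cokernel (Injective.ι M) ⟶ cokernel (Injective.ι N) :=
  cokernel.map _ _ f (underMap f) (comp_underMap f)

theorem π_cokMap {M N : ModuleCat.{u} A} (f : M ⟶ N) :
    cokernel.π (Injective.ι M) ≫ cokMap f = underMap f ≫ cokernel.π (Injective.ι N) :=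
  cokernel.π_desc _ _ _

/-- The map of injective resolutions, cosyzygies. -/
def zrMap : ∀ {M N : ModuleCat.{u} A} (_ : M ⟶ N) (n : ℕ), Zr M n ⟶ Zr N n
  | _, _, f, 0 => f
  | _, _, f, n + 1 => zrMap (cokMap f) n

/-- The map of injective resolutions, injectives. -/
def krMap : ∀ {M N : ModuleCat.{u} A} (_ : M ⟶ N) (n : ℕ), Kr M n ⟶ Kr N n
  | _, _, f, 0 => underMap f
  | _, _, f, n + 1 => krMap (cokMap f) n

theorem piR_krMap : ∀ {M N : ModuleCat.{u} A} (f : M ⟶ N) (n : ℕ) (w : Kr M n),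
    (zrMap f (n + 1)).hom ((piR M n).hom w) = (piR N n).hom ((krMap f n).hom w)
  | M, N, f, 0, w => congr($(π_cokMap f).hom w)
  | _, _, f, n + 1, w => piR_krMap (cokMap f) n w

variable {T : Set (PrimeSpectrum A)}

theorem cyc_natural (G : GammaDelta T) : ∀ (i : ℕ) {M N : ModuleCat.{u} A} (f : M ⟶ N)
    (z : gam T (Zr M i)),
    ((G.D.F i).map f).hom (cyc G i M z) = cyc G i N ⟨(zrMap f i).hom z.1, map_mem_gam _ z.2⟩
  | 0, M, N, f, z => congr($(G.e.inv.naturality f).hom z).symm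
  | i + 1, M, N, f, z => by
    let g : LocCohLib.DeltaFun.under (ModuleCat.{u} A) M ⟶ LocCohLib.DeltaFun.under (ModuleCat.{u} A) N :=
      { τ₁ := f
        τ₂ := underMap f
        τ₃ := cokMap f
        comm₁₂ := (comp_underMap f).symm
        comm₂₃ := (π_cokMap f).symm }
    have h := congr($(G.D.δ_natural (LocCohLib.DeltaFun.under_shortExact M)
      (LocCohLib.DeltaFun.under_shortExact N) g i).hom (cyc G i (cokernel (Injective.ι M)) z))
    exact h.trans (congrArg (G.D.δ (LocCohLib.DeltaFun.under_shortExact N) i).hom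
      (cyc_natural G i (cokMap f) z))

/-- `f` is zero on `H^i_q` locally at `q`. -/
def LocZero (q : PrimeSpectrum A) (i : ℕ) {M N : ModuleCat.{u} A} (f : M ⟶ N) : Prop :=
  ∀ z ∈ gam (PrimeSpectrum.zeroLocus (q.asIdeal : Set A)) (Zr M i),
    ∃ s ∉ q.asIdeal, Bnd (PrimeSpectrum.zeroLocus (q.asIdeal : Set A)) i N (s • (zrMap f i).hom z)

theorem locZero_iff (q : PrimeSpectrum A) (G : GammaDelta (PrimeSpectrum.zeroLocus (q.asIdeal : Set A)))
    (i : ℕ) {M N : ModuleCat.{u} A} (f : M ⟶ N) :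
    LocZero q i f ↔ ∀ x : (G.D.F i).obj M, ∃ s ∉ q.asIdeal, s • ((G.D.F i).map f).hom x = 0 := by
  constructor
  · intro h x
    obtain ⟨z, rfl⟩ := cyc_surjective G i M x
    obtain ⟨s, hs, hb⟩ := h z.1 z.2
    refine ⟨s, hs, ?_⟩
    rw [cyc_natural, ← map_smul]
    exact (cyc_eq_zero_iff G i N _).2 hb
  · intro h z hz
    obtain ⟨s, hs, hb⟩ := h (cyc G i M ⟨z, hz⟩)
    rw [cyc_natural, ← map_smul] at hb
    exact ⟨s, hs, (cyc_eq_zero_iff G i N _).1 hb⟩

section Chain

variable (Ms : ℕ → ModuleCat.{u} A) (φ : ∀ k, Ms (k + 1) ⟶ Ms k)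

/-- The composite `Ms (k + N) → Ms k`. -/
def chain : ∀ (N k : ℕ), Ms (k + N) ⟶ Ms k
  | 0, _ => 𝟙 _
  | N + 1, k => φ (k + N) ≫ chain N k

/-- The composite on cosyzygies. -/
def zChain (i : ℕ) : ∀ (N k : ℕ), Zr (Ms (k + N)) i →ₗ[A] Zr (Ms k) i
  | 0, _ => LinearMap.id
  | N + 1, k => (zChain i N k) ∘ₗ (zrMap (φ (k + N)) i).hom

/-- The composite on injectives. -/
def kChain (n : ℕ) : ∀ (N k : ℕ), Kr (Ms (k + N)) n →ₗ[A] Kr (Ms k) n
  | 0, _ => LinearMap.id
  | N + 1, k => (kChain n N k) ∘ₗ (krMap (φ (k + N)) n).hom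

theorem zChain_piR (n : ℕ) : ∀ (N k : ℕ) (w : Kr (Ms (k + N)) n),
    zChain Ms φ (n + 1) N k ((piR (Ms (k + N)) n).hom w) = (piR (Ms k) n).hom (kChain Ms φ n N k w)
  | 0, _, _ => rfl
  | N + 1, k, w => (congrArg (zChain Ms φ (n + 1) N k) (piR_krMap (φ (k + N)) n w)).trans
      (zChain_piR n N k _)

theorem cyc_zChain (G : GammaDelta T) (i : ℕ) : ∀ (N k : ℕ) (z : gam T (Zr (Ms (k + N)) i)),
    ((G.D.F i).map (chain Ms φ N k)).hom (cyc G i _ z) =
      cyc G i (Ms k) ⟨zChain Ms φ i N k z.1, map_mem_gam _ z.2⟩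
  | 0, k, z => by
    show ((G.D.F i).map (𝟙 (Ms k))).hom _ = _
    rw [CategoryTheory.Functor.map_id]
    rfl
  | N + 1, k, z => by
    show ((G.D.F i).map (φ (k + N) ≫ chain Ms φ N k)).hom _ = _
    rw [Functor.map_comp]
    exact (congrArg ((G.D.F i).map (chain Ms φ N k)).hom (cyc_natural G i (φ (k + N)) z)).trans
      (cyc_zChain G i N k _)

variable [IsNoetherianRing A]

theorem bnd_zChain (hT : StableUnderSpecialization T) (deg : PrimeSpectrum A → ℤ)
    (hdeg : StrictMono deg) (b : ℤ) (hb : ∀ q, deg q ≤ b) (i : ℕ)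
    (hloc : ∀ k, ∀ q ∈ T, LocZero q i (φ k)) : ∀ (N k : ℕ) (r : ℤ), b < r + N →
      ∀ z ∈ gam {q | q ∈ T ∧ r ≤ deg q} (Zr (Ms (k + N)) i), Bnd T i (Ms k) (zChain Ms φ i N k z) := by
  intro N
  induction N with
  | zero =>
    intro k r hr z hz
    rw [eq_zero_of_mem_gam_of_eq_empty
      (fun q hq => absurd (hb q) (by have := hq.2; omega)) hz, map_zero]
    exact Bnd.zero i _
  | succ N ih =>
    intro k r hr z hz
    let S : Set (PrimeSpectrum A) := {q | q ∈ T ∧ deg q = r}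
    let Tr : Set (PrimeSpectrum A) := {q | q ∈ T ∧ r ≤ deg q}
    have hTr : StableUnderSpecialization Tr := fun x y hxy hx =>
      ⟨hT hxy hx.1, hx.2.trans (hdeg.monotone ((PrimeSpectrum.le_iff_specializes x y).2 hxy))⟩
    have hST : S ⊆ Tr := fun q hq => ⟨hq.1, hq.2.ge⟩
    have hS : ∀ q ∈ S, ∀ g ∈ Tr, g ≤ q → g = q := fun q hq g hg hgq => by
      rcases eq_or_lt_of_le hgq with h | h
      · exact h
      · have := hdeg h
        have := hg.2
        have := hq.2
        omega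
    have hsub : Tr \ S ⊆ {q | q ∈ T ∧ r + 1 ≤ deg q} := fun q ⟨hq, hqS⟩ => ⟨hq.1, by
      have h1 := hq.2
      have h2 : deg q ≠ r := fun h => hqS ⟨hq.1, h⟩
      omega⟩
    have hZ : ∀ g : PrimeSpectrum A, LinearMap.ker (LinearMap.toSpanSingleton A _ z) ≤ g.asIdeal → g ∈ Tr :=
      fun g hg => by
        by_contra h
        obtain ⟨s, hs, hsz⟩ := mem_gam_iff.1 hz g h
        exact hs (hg hsz)
    match i, hloc, z, hz, hZ, ih with
    | 0, hloc, z, hz, hZ, ih =>
      refine ih k (r + 1) (by omega) ((zrMap (φ (k + N)) 0).hom z) (gam_mono hsub (mem_gam_iff.2 fun g hg => ?_))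
      by_cases hgT : g ∈ Tr
      · have hgS : g ∈ S := by_contra fun h => hg ⟨hgT, h⟩
        obtain ⟨c, hc, hcz⟩ := exists_scale g (hS g hgS) _ hZ z (fun x hx => hx)
        obtain ⟨s, hs, h⟩ := hloc (k + N) g hgS.1 _ hcz
        refine ⟨s * c, fun h => (g.isPrime.mem_or_mem h).elim hs hc, ?_⟩
        rw [mul_smul, ← map_smul]
        exact h
      · exact mem_gam_iff.1 (map_mem_gam _ hz) g hgT
    | n + 1, hloc, z, hz, hZ, ih =>
      have hpt : ∀ q ∈ S, ∃ w ∈ gam (PrimeSpectrum.zeroLocus (q.asIdeal : Set A)) (Kr (Ms (k + N)) n),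
          ∃ C ∉ q.asIdeal, C • ((1 : A) • (zrMap (φ (k + N)) (n + 1)).hom z - (piR _ n).hom w) = 0 := by
        intro q hq
        obtain ⟨c, hc, hcz⟩ := exists_scale q (hS q hq) _ hZ z (fun x hx => hx)
        obtain ⟨s, hs, w, hw, hwz⟩ := hloc (k + N) q hq.1 _ hcz
        obtain ⟨w', hw', e, he, hew⟩ := exists_div (baer_Kr n _) q hw (s * c)
          (fun h => (q.isPrime.mem_or_mem h).elim hs hc)
        refine ⟨w', hw', e * (s * c),
          fun h => (q.isPrime.mem_or_mem h).elim he (fun h => (q.isPrime.mem_or_mem h).elim hs hc), ?_⟩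
        rw [smul_sub, sub_eq_zero] at hew
        rw [map_smul] at hwz
        rw [one_smul, smul_sub, sub_eq_zero, ← map_smul (piR (Ms (k + N)) n).hom, mul_smul e (s * c) w', hew,
          map_smul, hwz, smul_smul, smul_smul, mul_assoc]
      obtain ⟨w, hw, hzw⟩ := exists_glue hTr S hST hS (piR (Ms (k + N)) n).hom
        ((zrMap (φ (k + N)) (n + 1)).hom z) (map_mem_gam _ hz) hpt
      obtain ⟨w', hw', hw'z⟩ := ih k (r + 1) (by omega) _ (gam_mono hsub hzw)
      refine ⟨kChain Ms φ n N k w + w',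
        add_mem (map_mem_gam _ (gam_mono (fun q hq => hq.1) hw)) hw', ?_⟩
      rw [map_add, hw'z, ← zChain_piR, ← map_add, one_smul]
      show _ = zChain Ms φ (n + 1) N k ((zrMap (φ (k + N)) (n + 1)).hom z)
      rw [add_sub_cancel]

/-- A long enough composite of maps killing locally kills `H_T`. -/
theorem map_chain_eq_zero (G : GammaDelta T) (hT : StableUnderSpecialization T)
    (deg : PrimeSpectrum A → ℤ) (hdeg : StrictMono deg) (l b : ℤ) (hb : ∀ q, l ≤ deg q ∧ deg q ≤ b) (i : ℕ)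
    (hloc : ∀ k, ∀ q ∈ T, LocZero q i (φ k)) (k : ℕ)
    (x : (G.D.F i).obj (Ms (k + (b - l + 1).toNat))) :
    ((G.D.F i).map (chain Ms φ (b - l + 1).toNat k)).hom x = 0 := by
  obtain ⟨z, rfl⟩ := cyc_surjective G i _ x
  rw [cyc_zChain]
  exact (cyc_eq_zero_iff G i _ _).2 (bnd_zChain Ms φ hT deg hdeg b (fun q => (hb q).2) i hloc _ k l (by omega) _
    (gam_mono (fun q hq => show q ∈ T ∧ l ≤ deg q from ⟨hq, (hb q).1⟩) z.2))

end Chain

end BootDualLib
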