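import Groth.Agent.FlatExtLib.Dual
import Groth.Agent.DualCxLib.LocDualApps
import Groth.Agent.CohenLib.FlatUnramified
import Groth.Agent.LocSuppLib.DepthStalk
import Groth.Prelude.Def_Formal2
import Mathlib.RingTheory.Localization.LocalizationLocalization

/-!
# Depth and dimension of the completions of the local rings
-/

set_option autoImplicit false
set_option linter.unusedSectionVars false
set_option maxHeartbeats 1000000

universe u

open CategoryTheory CategoryTheory.Limits
open Groth.Agent
open scoped TensorProduct

attribute [local instance] HasDerivedCategory.standard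

noncomputable section

namespace BootDualLib

open Groth.Agent.DualCxLib FlatExtLib

variable {A : Type u} [CommRing A] [IsNoetherianRing A]

theorem depth_localized_congr {S : Type u} [CommRing S] {N N' : Type u} [AddCommGroup N] [Module S N]
    [AddCommGroup N'] [Module S N'] (e : N ≃ₗ[S] N') (p : Ideal S) [p.IsPrime] :
    LocCoh.depth (Localization.AtPrime p) (LocalizedModule p.primeCompl N) =
      LocCoh.depth (Localization.AtPrime p) (LocalizedModule p.primeCompl N') := by
  let f := LocalizedModule.map p.primeCompl e.toLinearMap
  let g := LocalizedModule.map p.primeCompl e.symm.toLinearMap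
  have h1 : ∀ z, g (f z) = z := fun z => by
    induction z using LocalizedModule.induction_on with
    | h m s =>
      rw [show f (LocalizedModule.mk m s) = LocalizedModule.mk (e m) s from LocalizedModule.map_mk _ _ _ _]
      rw [show g (LocalizedModule.mk (e m) s) = LocalizedModule.mk (e.symm (e m)) s from
        LocalizedModule.map_mk _ _ _ _, e.symm_apply_apply]
  have h2 : ∀ z, f (g z) = z := fun z => by
    induction z using LocalizedModule.induction_on with
    | h m s =>
      rw [show g (LocalizedModule.mk m s) = LocalizedModule.mk (e.symm m) s from LocalizedModule.map_mk _ _ _ _]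
      rw [show f (LocalizedModule.mk (e.symm m) s) = LocalizedModule.mk (e (e.symm m)) s from
        LocalizedModule.map_mk _ _ _ _, e.apply_symm_apply]
  exact CommAlgDim.depth_congr (LinearEquiv.ofBijective f
    ⟨Function.LeftInverse.injective h1, Function.RightInverse.surjective h2⟩)

/-- Depth of a localization of `M_q`. -/
theorem depth_localized_localized (M : Type u) [AddCommGroup M] [Module A M] [Module.Finite A M]
    (q : PrimeSpectrum A) (P : PrimeSpectrum (Localization.AtPrime q.asIdeal)) :
    LocCoh.depth (Localization.AtPrime P.asIdeal)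
        (LocalizedModule P.asIdeal.primeCompl (LocalizedModule q.asIdeal.primeCompl M)) =
      LocCoh.depth (Localization.AtPrime (P.asIdeal.comap (algebraMap A (Localization.AtPrime q.asIdeal))))
        (LocalizedModule (P.asIdeal.comap (algebraMap A (Localization.AtPrime q.asIdeal))).primeCompl M) := by
  let B := Localization.AtPrime q.asIdeal
  let p := P.asIdeal.comap (algebraMap A B)
  haveI : IsLocalization.AtPrime (Localization.AtPrime P.asIdeal) p :=
    IsLocalization.isLocalization_isLocalization_atPrime_isLocalization q.asIdeal.primeCompl _ P.asIdeal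
  let f := LocalizedModule.mkLinearMap q.asIdeal.primeCompl M
  let g := LocalizedModule.mkLinearMap P.asIdeal.primeCompl (LocalizedModule q.asIdeal.primeCompl M)
  have hf : IsBaseChange B f := (isLocalizedModule_iff_isBaseChange q.asIdeal.primeCompl B f).1 inferInstance
  have hg : IsBaseChange (Localization.AtPrime P.asIdeal) g :=
    (isLocalizedModule_iff_isBaseChange P.asIdeal.primeCompl _ g).1 inferInstance
  haveI : IsLocalizedModule p.primeCompl ((g.restrictScalars A).comp f) :=
    (isLocalizedModule_iff_isBaseChange p.primeCompl (Localization.AtPrime P.asIdeal) _).2 (hf.comp hg)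
  refine ENat.eq_of_forall_natCast_le_iff fun n => ?_
  exact LocSuppLib.le_depth_iff_localization (S := Localization.AtPrime P.asIdeal) p
    ((g.restrictScalars A).comp f) n

variable (q : PrimeSpectrum A)

/-- Depth and dimension along `A_q → S` flat with trivial closed fibre. -/
theorem exists_transfer {ω : Dual.D A} (hω : Dual.IsDualizing A ω) (S : Type u) [CommRing S]
    [IsLocalRing S] [IsNoetherianRing S] [Algebra (Localization.AtPrime q.asIdeal) S]
    [Module.Flat (Localization.AtPrime q.asIdeal) S]
    (hm : (IsLocalRing.maximalIdeal (Localization.AtPrime q.asIdeal)).map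
      (algebraMap (Localization.AtPrime q.asIdeal) S) = IsLocalRing.maximalIdeal S) :
    (∃ Z : Dual.D S, Dual.IsDualizing S Z) ∧ ∀ p' : PrimeSpectrum S, ∃ δ n n' : ℕ,
      ringKrullDim (S ⧸ p'.asIdeal) = n' ∧ n' + δ = n ∧
      Formal2.dimBetween A ((p'.asIdeal.comap (algebraMap (Localization.AtPrime q.asIdeal) S)).comap
        (algebraMap A (Localization.AtPrime q.asIdeal))) q.asIdeal = n ∧
      ∀ (M : Type u) [AddCommGroup M] [Module A M] [Module.Finite A M] (N : Type u) [AddCommGroup N]
        [Module S N] (_ : (S ⊗[Localization.AtPrime q.asIdeal] LocalizedModule q.asIdeal.primeCompl M) ≃ₗ[S] N),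
        LocCoh.depth (Localization.AtPrime p'.asIdeal) (LocalizedModule p'.asIdeal.primeCompl N) =
          LocCoh.depth (Localization.AtPrime ((p'.asIdeal.comap
              (algebraMap (Localization.AtPrime q.asIdeal) S)).comap (algebraMap A (Localization.AtPrime q.asIdeal))))
            (LocalizedModule ((p'.asIdeal.comap
              (algebraMap (Localization.AtPrime q.asIdeal) S)).comap
                (algebraMap A (Localization.AtPrime q.asIdeal))).primeCompl M) + δ := by
  let B := Localization.AtPrime q.asIdeal
  haveI : IsNoetherianRing B := IsLocalization.isNoetherianRing q.asIdeal.primeCompl _ inferInstance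
  haveI := DRingLib.hasLBaseChange (algebraMap A B)
  obtain ⟨ηB, hηB, hL⟩ := exists_loc_base (S := B) q.asIdeal.primeCompl ω
  have hB := isDualizing_loc q.asIdeal.primeCompl hω hηB hL
  obtain ⟨Z, η, hη, hZ, hd⟩ := exists_dualizing_bc (A := B) (S := S) hm hB
  refine ⟨⟨Z, hZ⟩, fun p' => ?_⟩
  obtain ⟨δ, hdeg, hdepth⟩ := depth_bc hB hZ hη p'
  let P := PrimeSpectrum.comap (algebraMap B S) p'
  have hP : (P.asIdeal.comap (algebraMap A B)).map (algebraMap A B) = P.asIdeal :=
    IsLocalization.map_comap q.asIdeal.primeCompl B P.asIdeal
  refine ⟨δ, (deg hB (closedPt B) - deg hB P).toNat, (deg hZ (closedPt S) - deg hZ p').toNat,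
    ringKrullDim_quotient_eq hZ p', ?_, ?_, fun M _ _ _ N _ _ e => ?_⟩
  · have h1 := (deg_strictMono hB).monotone (le_closedPt P)
    have h2 := (deg_strictMono hZ).monotone (le_closedPt p')
    change deg hZ p' = deg hB P + δ at hdeg
    omega
  · show ringKrullDim (B ⧸ (P.asIdeal.comap (algebraMap A B)).map (algebraMap A B)) = _
    rw [hP]
    exact ringKrullDim_quotient_eq hB P
  · haveI : Module.Finite B (LocalizedModule q.asIdeal.primeCompl M) :=
      Module.Finite.of_isLocalizedModule q.asIdeal.primeCompl (LocalizedModule.mkLinearMap q.asIdeal.primeCompl M)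
    rw [← depth_localized_congr e p'.asIdeal, hdepth (LocalizedModule q.asIdeal.primeCompl M)]
    exact congrArg (fun z : ℕ∞ => z + (δ : ℕ∞)) (depth_localized_localized M q P)

variable (I : Ideal A)

/-- The completion of a local ring. -/
theorem exists_completion_transfer {ω : Dual.D A} (hω : Dual.IsDualizing A ω) (hIq : I ≤ q.asIdeal) :
    let B := Localization.AtPrime q.asIdeal
    let J := I.map (algebraMap A B)
    ∃ (_ : IsLocalRing (AdicCompletion J B)) (_ : IsNoetherianRing (AdicCompletion J B)),
      ((IsLocalRing.maximalIdeal B).map (algebraMap B (AdicCompletion J B)) =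
        IsLocalRing.maximalIdeal (AdicCompletion J B)) ∧
      (∃ Z : Dual.D (AdicCompletion J B), Dual.IsDualizing _ Z) ∧
      ∀ p' : PrimeSpectrum (AdicCompletion J B), ∃ δ n n' : ℕ,
        ringKrullDim (AdicCompletion J B ⧸ p'.asIdeal) = n' ∧ n' + δ = n ∧
        Formal2.dimBetween A (p'.asIdeal.comap (algebraMap A (AdicCompletion J B))) q.asIdeal = n ∧
        ∀ (M : Type u) [AddCommGroup M] [Module A M] [Module.Finite A M],
          LocCoh.depth (Localization.AtPrime p'.asIdeal) (LocalizedModule p'.asIdeal.primeCompl
              (AdicCompletion J (LocalizedModule q.asIdeal.primeCompl M))) =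
            LocCoh.depth (Localization.AtPrime (p'.asIdeal.comap (algebraMap A (AdicCompletion J B))))
              (LocalizedModule (p'.asIdeal.comap (algebraMap A (AdicCompletion J B))).primeCompl M) + δ := by
  intro B J
  haveI : IsNoetherianRing B := IsLocalization.isNoetherianRing q.asIdeal.primeCompl _ inferInstance
  have hJ : J ≠ ⊤ := by
    refine ne_top_of_le_ne_top (IsLocalRing.maximalIdeal.isMaximal B).ne_top ?_
    rw [← Localization.AtPrime.map_eq_maximalIdeal]
    exact Ideal.map_mono hIq
  obtain ⟨hloc, hN, -, hm, -⟩ := CohenLib.completion_facts B J hJ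
  refine ⟨hloc, hN, hm, ?_⟩
  obtain ⟨hdual, htr⟩ := exists_transfer q hω (AdicCompletion J B) hm
  refine ⟨hdual, fun p' => ?_⟩
  obtain ⟨δ, n, n', h1, h2, h3, h4⟩ := htr p'
  have hc : (p'.asIdeal.comap (algebraMap B (AdicCompletion J B))).comap (algebraMap A B) =
      p'.asIdeal.comap (algebraMap A (AdicCompletion J B)) := by
    rw [Ideal.comap_comap, ← IsScalarTower.algebraMap_eq]
  refine ⟨δ, n, n', h1, h2, ?_, fun M _ _ _ => ?_⟩
  · rw [← hc]
    exact h3
  · haveI : Module.Finite B (LocalizedModule q.asIdeal.primeCompl M) :=
      Module.Finite.of_isLocalizedModule q.asIdeal.primeCompl (LocalizedModule.mkLinearMap q.asIdeal.primeCompl M)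
    have := h4 M (AdicCompletion J (LocalizedModule q.asIdeal.primeCompl M))
      (AdicCompletion.ofTensorProductEquivOfFiniteNoetherian J _)
    convert this using 7 <;> exact hc.symm

end BootDualLib
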