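import Groth.Agent.BootDualLib.LocalCase
import Groth.Agent.BootDualLib.Transfer

/-!
From conditions (4) and (6) to pro-zero `H_T(I^n M)` in degrees up to `s + 1`.
-/

set_option autoImplicit false
set_option linter.style.haveILetI false
set_option linter.unusedSectionVars false
set_option maxHeartbeats 1600000

universe u

open CategoryTheory CategoryTheory.Limits
open Groth.Agent
open LocCohLib (tensF)
open scoped TensorProduct

attribute [local instance] HasDerivedCategory.standard

noncomputable section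

namespace BootDualLib

/-- A prime over `P` with a fibre of the same dimension. -/
theorem exists_prime_over_dim {B S : Type u} [CommRing B] [CommRing S] [Algebra B S]
    [Module.FaithfullyFlat B S] (P : PrimeSpectrum B) (n : ℕ) (hn : ringKrullDim (B ⧸ P.asIdeal) = n) :
    ∃ p' : PrimeSpectrum S, p'.asIdeal.comap (algebraMap B S) = P.asIdeal ∧
      (n : WithBot ℕ∞) ≤ ringKrullDim (S ⧸ p'.asIdeal) := by
  haveI : Algebra.HasGoingDown B S := Algebra.HasGoingDown.of_flat
  rw [ringKrullDim_quotient] at hn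
  obtain ⟨l, hl⟩ := Order.le_krullDim_iff.1 hn.ge
  let l' : LTSeries (PrimeSpectrum B) := l.map Subtype.val (fun _ _ h => h)
  obtain ⟨Q, hQ⟩ := PrimeSpectrum.comap_surjective_of_faithfullyFlat (B := S) l'.last
  haveI : Q.asIdeal.LiesOver l'.last.asIdeal := ⟨(congrArg PrimeSpectrum.asIdeal hQ).symm⟩
  obtain ⟨L, hlen, -, hmap⟩ := Ideal.exists_ltSeries_of_hasGoingDown l' Q.asIdeal
  have hhead : L.head.asIdeal.LiesOver l'.head.asIdeal := by
    constructor
    rw [← L.toList_getElem_zero_eq_head, ← l'.toList_getElem_zero_eq_head, Ideal.under_def]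
    have : l'.toList[0] = (PrimeSpectrum.comap (algebraMap B S)) L.toList[0] := by
      rw [List.getElem_map_rev (PrimeSpectrum.comap (algebraMap B S)), List.getElem_of_eq hmap.symm _]
    rwa [PrimeSpectrum.ext_iff] at this
  obtain ⟨p', hp', hprime, hover⟩ := Ideal.exists_ideal_le_liesOver_of_le (p := P.asIdeal)
    (q := l'.head.asIdeal) L.head.asIdeal (l.head.2 : P.asIdeal ≤ l.head.1.asIdeal)
  refine ⟨⟨p', hprime⟩, hover.over.symm, ?_⟩
  rw [ringKrullDim_quotient]
  have hL : ∀ j, L j ∈ PrimeSpectrum.zeroLocus (p' : Set S) := fun j =>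
    (Set.Subset.trans hp' (show L.head.asIdeal ≤ (L j).asIdeal from L.monotone (Fin.zero_le j)) :)
  refine Order.le_krullDim_iff.2 ⟨⟨L.length, fun j => ⟨L j, hL j⟩, fun j => L.step j⟩, ?_⟩
  exact hlen.trans hl

variable {A : Type u} [CommRing A] [IsNoetherianRing A] (I : Ideal A) (M : Type u) [AddCommGroup M] [Module A M]
  [Module.Finite A M] (T : Set (PrimeSpectrum A)) (s d : ℕ)

/-- Condition (4). -/
def Cond4 : Prop :=
  ∀ p r q : PrimeSpectrum A, p ≤ r → r ≤ q → ¬ I ≤ p.asIdeal → I ≤ r.asIdeal → r ∉ T → q ∈ T →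
    (s : ℕ∞) ≤ LocCoh.depth (Localization.AtPrime p.asIdeal) (LocalizedModule p.asIdeal.primeCompl M) ∨
      ((d + s : ℕ) : WithBot ℕ∞) < (LocCoh.depth (Localization.AtPrime p.asIdeal)
        (LocalizedModule p.asIdeal.primeCompl M) : WithBot ℕ∞) + Formal2.dimBetween A p.asIdeal q.asIdeal

/-- Condition (6). -/
def Cond6 : Prop :=
  ∀ q : PrimeSpectrum A, q ∈ T → ∀ p' : PrimeSpectrum (AdicCompletion (I.map (algebraMap A (Localization.AtPrime q.asIdeal))) (Localization.AtPrime q.asIdeal)),
    ¬ (I.map (algebraMap A (AdicCompletion (I.map (algebraMap A (Localization.AtPrime q.asIdeal))) (Localization.AtPrime q.asIdeal)))) ≤ p'.asIdeal →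
    (∀ q' : PrimeSpectrum (AdicCompletion (I.map (algebraMap A (Localization.AtPrime q.asIdeal))) (Localization.AtPrime q.asIdeal)),
      p' ≤ q' → (I.map (algebraMap A (AdicCompletion (I.map (algebraMap A (Localization.AtPrime q.asIdeal))) (Localization.AtPrime q.asIdeal)))) ≤ q'.asIdeal → q'.asIdeal.IsMaximal) →
    (s : ℕ∞) < LocCoh.depth (Localization.AtPrime p'.asIdeal) (LocalizedModule p'.asIdeal.primeCompl
      (AdicCompletion (I.map (algebraMap A (Localization.AtPrime q.asIdeal))) (LocalizedModule q.asIdeal.primeCompl M)))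

section Completion

variable (q : PrimeSpectrum A)

/-- `A_q`. -/
abbrev Bq : Type u := Localization.AtPrime q.asIdeal

/-- The completion of `A_q`. -/
abbrev Sq : Type u := AdicCompletion (I.map (algebraMap A (Bq q))) (Bq q)

theorem Iq_map : (I.map (algebraMap A (Bq q))).map (algebraMap (Bq q) (Sq I q)) = I.map (algebraMap A (Sq I q)) := by
  rw [Ideal.map_map, ← IsScalarTower.algebraMap_eq]

theorem q_map [IsLocalRing (Sq I q)]
    (hm : (IsLocalRing.maximalIdeal (Bq q)).map (algebraMap (Bq q) (Sq I q)) = IsLocalRing.maximalIdeal (Sq I q)) :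
    q.asIdeal.map (algebraMap A (Sq I q)) = IsLocalRing.maximalIdeal (Sq I q) := by
  rw [← hm, ← Localization.AtPrime.map_eq_maximalIdeal, Ideal.map_map, ← IsScalarTower.algebraMap_eq]

/-- `S ⊗ M` is the completion of `M_q`. -/
def tensEquiv : Sq I q ⊗[A] M ≃ₗ[Sq I q]
    AdicCompletion (I.map (algebraMap A (Bq q))) (LocalizedModule q.asIdeal.primeCompl M) :=
  haveI : IsNoetherianRing (Bq q) := IsLocalization.isNoetherianRing q.asIdeal.primeCompl _ inferInstance
  haveI : Module.Finite (Bq q) (LocalizedModule q.asIdeal.primeCompl M) :=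
    Module.Finite.of_isLocalizedModule q.asIdeal.primeCompl (LocalizedModule.mkLinearMap q.asIdeal.primeCompl M)
  (TensorProduct.AlgebraTensorModule.cancelBaseChange A (Bq q) (Sq I q) (Sq I q) M).symm.trans
    ((TensorProduct.AlgebraTensorModule.congr (LinearEquiv.refl (Sq I q) (Sq I q))
        ((isLocalizedModule_iff_isBaseChange q.asIdeal.primeCompl (Bq q)
          (LocalizedModule.mkLinearMap q.asIdeal.primeCompl M)).1 inferInstance).equiv).trans
      (AdicCompletion.ofTensorProductEquivOfFiniteNoetherian _ _))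

end Completion

variable {ω : Dual.D A} (hω : Dual.IsDualizing A ω) {I M T s d}
  (hTI : T ⊆ PrimeSpectrum.zeroLocus (I : Set A)) (h4 : Cond4 I M T s d) (h6 : Cond6 I M T s)

include hω hTI h6

/-- The depth bound when nothing of `V(I) ∖ T` lies between. -/
theorem lt_depth_of_between {p q : PrimeSpectrum A} (hpq : p ≤ q) (hp : ¬ I ≤ p.asIdeal) (hq : q ∈ T)
    (h : ∀ r : PrimeSpectrum A, p ≤ r → r ≤ q → I ≤ r.asIdeal → r ∈ T) :
    (s : ℕ∞) < LocCoh.depth (Localization.AtPrime p.asIdeal) (LocalizedModule p.asIdeal.primeCompl M) := by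
  have hle : p.asIdeal ⊔ I ≤ q.asIdeal := sup_le hpq (hTI hq)
  obtain ⟨R, hR, hRq⟩ := Ideal.exists_minimalPrimes_le hle
  obtain ⟨r, rfl⟩ : ∃ r : PrimeSpectrum A, r.asIdeal = R := ⟨⟨R, hR.1.1⟩, rfl⟩
  have hpr : p ≤ r := le_sup_left.trans hR.1.2
  have hIr : I ≤ r.asIdeal := le_sup_right.trans hR.1.2
  have hrT : r ∈ T := h r hpr hRq hIr
  obtain ⟨hloc, hN, hm, -, htr⟩ := exists_completion_transfer r I hω hIr
  haveI := hloc; haveI := hN
  haveI : IsNoetherianRing (Bq r) := IsLocalization.isNoetherianRing r.asIdeal.primeCompl _ inferInstance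
  haveI : IsLocalHom (algebraMap (Bq r) (Sq I r)) := ⟨fun a ha => by
    by_contra hu
    have : algebraMap (Bq r) (Sq I r) a ∈ IsLocalRing.maximalIdeal (Sq I r) :=
      hm ▸ Ideal.mem_map_of_mem _ hu
    exact this ha⟩
  haveI : Module.FaithfullyFlat (Bq r) (Sq I r) := Module.FaithfullyFlat.of_flat_of_isLocalHom
  have hdisj : Disjoint (r.asIdeal.primeCompl : Set A) p.asIdeal :=
    Set.disjoint_left.2 fun a ha hap => ha (hpr hap)
  let P : PrimeSpectrum (Bq r) := ⟨p.asIdeal.map (algebraMap A (Bq r)),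
    IsLocalization.isPrime_of_isPrime_disjoint r.asIdeal.primeCompl (Bq r) p.asIdeal p.isPrime hdisj⟩
  have hP : P.asIdeal.comap (algebraMap A (Bq r)) = p.asIdeal :=
    IsLocalization.comap_map_of_isPrime_disjoint r.asIdeal.primeCompl (Bq r) p.isPrime hdisj
  obtain ⟨n, hn⟩ : ∃ n : ℕ, ringKrullDim (Bq r ⧸ P.asIdeal) = n := by
    haveI := DRingLib.hasLBaseChange (algebraMap A (Bq r))
    obtain ⟨ηB, hηB, hL⟩ := Groth.Agent.DualCxLib.exists_loc_base (S := Bq r) r.asIdeal.primeCompl ω
    exact ⟨_, Groth.Agent.DualCxLib.ringKrullDim_quotient_eq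
      (Groth.Agent.DualCxLib.isDualizing_loc r.asIdeal.primeCompl hω hηB hL) P⟩
  obtain ⟨p', hover, hdim⟩ := exists_prime_over_dim (S := Sq I r) P n hn
  obtain ⟨δ, n₁, n', h1, h2, h3, hdep⟩ := htr p'
  have hc : p'.asIdeal.comap (algebraMap A (Sq I r)) = p.asIdeal := by
    rw [IsScalarTower.algebraMap_eq A (Bq r) (Sq I r), ← Ideal.comap_comap, hover, hP]
  have hn1 : n₁ = n := by
    simp only [hc] at h3
    rw [show Formal2.dimBetween A p.asIdeal r.asIdeal = ringKrullDim (Bq r ⧸ P.asIdeal) from rfl, hn] at h3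
    exact_mod_cast h3.symm
  have hδ : δ = 0 := by
    rw [h1] at hdim
    have : n ≤ n' := by exact_mod_cast hdim
    omega
  have key := h6 r hrT p' (fun hI => hp (by
      rw [← hc]
      exact Ideal.map_le_iff_le_comap.1 hI))
    fun q' hp'q' hIq' => by
      have hq'r : q'.asIdeal.comap (algebraMap A (Sq I r)) ≤ r.asIdeal := fun a ha => by
        by_contra har
        refine q'.isPrime.ne_top (Ideal.eq_top_of_isUnit_mem _ ha ?_)
        rw [IsScalarTower.algebraMap_apply A (Bq r) (Sq I r)]
        exact (IsLocalization.map_units (Bq r) (⟨a, har⟩ : r.asIdeal.primeCompl)).map _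
      have hge : r.asIdeal ≤ q'.asIdeal.comap (algebraMap A (Sq I r)) :=
        hR.2 ⟨Ideal.comap_isPrime _ _, sup_le (hc.ge.trans (Ideal.comap_mono hp'q'))
          (Ideal.map_le_iff_le_comap.1 hIq')⟩ hq'r
      have hm' : IsLocalRing.maximalIdeal (Sq I r) ≤ q'.asIdeal :=
        (q_map I r hm).ge.trans (Ideal.map_le_iff_le_comap.2 hge)
      exact (IsLocalRing.maximalIdeal.isMaximal (Sq I r)).eq_of_le q'.isPrime.ne_top hm' ▸
        IsLocalRing.maximalIdeal.isMaximal _
  rw [hdep M, hδ, Nat.cast_zero, add_zero] at key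
  convert key using 4 <;> exact hc.symm

include h4

/-- Pro-vanishing at a point of `T`. -/
theorem exists_locZero_incl (hd : LocCoh.CdLE A I d) (q : PrimeSpectrum A) (hq : q ∈ T) (i : ℕ)
    (hi : i ≤ s + 1) (n : ℕ) : ∃ (m : ℕ) (h : n ≤ m), LocZero q i (incl I M h) := by
  obtain ⟨hloc, hN, hm, hdual, htr⟩ := exists_completion_transfer q I hω (hTI hq)
  haveI := hloc; haveI := hN
  haveI : IsNoetherianRing (Bq q) := IsLocalization.isNoetherianRing q.asIdeal.primeCompl _ inferInstance
  haveI : Module.Flat A (Bq q) := IsLocalization.flat _ q.asIdeal.primeCompl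
  haveI : Module.Flat A (Sq I q) := Module.Flat.trans A (Bq q) (Sq I q)
  let S := Sq I q
  let I' : Ideal S := I.map (algebraMap A S)
  haveI : IsAdicComplete I' S := by
    show IsAdicComplete (I.map (algebraMap A (Sq I q))) (Sq I q)
    rw [← Iq_map]
    exact (IsAdicComplete.map_algebraMap_iff _ _).2
      (AdicCompletion.isAdicComplete (M := Bq q) (IsNoetherian.noetherian _))
  have hqS := q_map I q hm
  let M' := S ⊗[A] M
  have hdep : ∀ p' : PrimeSpectrum S, ∃ δ n₁ n' : ℕ, ringKrullDim (S ⧸ p'.asIdeal) = n' ∧ n' + δ = n₁ ∧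
      Formal2.dimBetween A (p'.asIdeal.comap (algebraMap A S)) q.asIdeal = n₁ ∧
      LocCoh.depth (Localization.AtPrime p'.asIdeal) (LocalizedModule p'.asIdeal.primeCompl M') =
        LocCoh.depth (Localization.AtPrime (p'.asIdeal.comap (algebraMap A S)))
          (LocalizedModule (p'.asIdeal.comap (algebraMap A S)).primeCompl M) + δ := fun p' => by
    obtain ⟨δ, n₁, n', h1, h2, h3, hdep⟩ := htr p'
    exact ⟨δ, n₁, n', h1, h2, h3, (depth_localized_congr (tensEquiv I M q) p'.asIdeal).trans (hdep M)⟩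
  have hA4 : ∀ p' : PrimeSpectrum S, ¬ I' ≤ p'.asIdeal →
      (∃ r' : PrimeSpectrum S, p' ≤ r' ∧ I' ≤ r'.asIdeal ∧ r'.asIdeal ≠ IsLocalRing.maximalIdeal S) →
      (s : ℕ∞) ≤ LocCoh.depth (Localization.AtPrime p'.asIdeal) (LocalizedModule p'.asIdeal.primeCompl M') ∨
        (((d + s : ℕ) : ℕ∞) : WithBot ℕ∞) < ((LocCoh.depth (Localization.AtPrime p'.asIdeal)
          (LocalizedModule p'.asIdeal.primeCompl M') : ℕ∞) : WithBot ℕ∞) + ringKrullDim (S ⧸ p'.asIdeal) := by
    intro p' hp' _
    obtain ⟨δ, n₁, n', h1, h2, h3, h5⟩ := hdep p'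
    let p : PrimeSpectrum A := PrimeSpectrum.comap (algebraMap A S) p'
    have hp : ¬ I ≤ p.asIdeal := fun h => hp' (Ideal.map_le_iff_le_comap.2 h)
    have hpq : p ≤ q := fun a ha => by
      by_contra haq
      refine p'.isPrime.ne_top (Ideal.eq_top_of_isUnit_mem _ ha ?_)
      rw [IsScalarTower.algebraMap_apply A (Bq q) S]
      exact (IsLocalization.map_units (Bq q) (⟨a, haq⟩ : q.asIdeal.primeCompl)).map _
    by_cases hex : ∃ r : PrimeSpectrum A, p ≤ r ∧ r ≤ q ∧ I ≤ r.asIdeal ∧ r ∉ T
    · obtain ⟨r, hpr, hrq, hIr, hrT⟩ := hex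
      rcases h4 p r q hpr hrq hp hIr hrT hq with h | h
      · exact Or.inl (h.trans (le_self_add.trans h5.ge))
      · refine Or.inr ?_
        rw [h5, h1]
        rw [show Formal2.dimBetween A p.asIdeal q.asIdeal = n₁ from h3, ← h2] at h
        convert h using 1
        · rfl
        · rw [WithBot.coe_add, add_assoc]
          push_cast
          rw [add_comm (n' : WithBot ℕ∞)]
          rfl
    · push_neg at hex
      exact Or.inl ((lt_depth_of_between hω hTI h6 hpq hp hq fun r a b c => hex r a b c).le.trans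
        (le_self_add.trans h5.ge))
  have hA6 : ∀ p' : PrimeSpectrum S, ¬ I' ≤ p'.asIdeal →
      (∀ r' : PrimeSpectrum S, p' ≤ r' → I' ≤ r'.asIdeal → r'.asIdeal = IsLocalRing.maximalIdeal S) →
      (s : ℕ∞) < LocCoh.depth (Localization.AtPrime p'.asIdeal) (LocalizedModule p'.asIdeal.primeCompl M') := by
    intro p' hp' hr
    rw [depth_localized_congr (tensEquiv I M q) p'.asIdeal]
    exact h6 q hq p' hp' fun q' h1 h2 => by
      rw [hr q' h1 h2]
      exact IsLocalRing.maximalIdeal.isMaximal S
  obtain ⟨m, hnm, hzero⟩ := exists_map_incl_eq_zero (I := I') M' hdual d s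
    (LocCohLib.cdLE_map (R' := S) (I := I) hd) hA4 hA6 i hi n
  refine ⟨m, hnm, ?_⟩
  -- `S ⊗ I^k M = I'^k M'`
  have hrange : ∀ k, LinearMap.range ((I ^ k • ⊤ : Submodule A M).subtype.baseChange S) =
      (I' ^ k • ⊤ : Submodule S M') := fun k => by
    refine le_antisymm ?_ ?_
    · rintro _ ⟨z, rfl⟩
      induction z using TensorProduct.induction_on with
      | zero => simp
      | tmul c x =>
        obtain ⟨x, hx⟩ := x
        show c ⊗ₜ[A] x ∈ _
        induction hx using Submodule.smul_induction_on' with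
        | smul a ha y _ =>
          rw [TensorProduct.tmul_smul, ← IsScalarTower.algebraMap_smul S a (c ⊗ₜ[A] y)]
          refine Submodule.smul_mem_smul ?_ Submodule.mem_top
          show algebraMap A S a ∈ (I.map (algebraMap A S)) ^ k
          rw [← Ideal.map_pow]
          exact Ideal.mem_map_of_mem _ ha
        | add y _ z _ hy hz => rw [TensorProduct.tmul_add]; exact Submodule.add_mem _ hy hz
      | add a b ha hb => rw [map_add]; exact Submodule.add_mem _ ha hb
    · rw [Submodule.smul_le]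
      intro c hc z hz
      clear hz
      rw [show I' ^ k = (I ^ k).map (algebraMap A S) from (Ideal.map_pow _ _ _).symm] at hc
      induction hc using Submodule.span_induction generalizing z with
      | mem _ h =>
        obtain ⟨a, ha, rfl⟩ := h
        induction z using TensorProduct.induction_on with
        | zero => rw [smul_zero]; exact Submodule.zero_mem _
        | tmul b y =>
          refine ⟨b ⊗ₜ ⟨a • y, Submodule.smul_mem_smul ha Submodule.mem_top⟩, ?_⟩
          show b ⊗ₜ[A] (a • y) = _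
          rw [TensorProduct.tmul_smul, ← IsScalarTower.algebraMap_smul S a (b ⊗ₜ[A] y)]
        | add x y hx hy => rw [smul_add]; exact Submodule.add_mem _ hx hy
      | zero => rw [zero_smul]; exact Submodule.zero_mem _
      | add x y _ _ hx hy => rw [add_smul]; exact Submodule.add_mem _ (hx _) (hy _)
      | smul x y _ hy => rw [smul_assoc]; exact Submodule.smul_mem _ x (hy _)
  have hinj : ∀ k, Function.Injective ((I ^ k • ⊤ : Submodule A M).subtype.baseChange S) := fun k => by
    rw [LinearMap.baseChange_eq_ltensor]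
    exact Module.Flat.lTensor_preserves_injective_linearMap _ Subtype.val_injective
  let eP : ∀ k, (tensF A S).obj (pw I M k) ≅ pw I' M' k := fun k =>
    ((LinearEquiv.ofInjective _ (hinj k)).trans (LinearEquiv.ofEq _ _ (hrange k))).toModuleIso
  have hnat : (tensF A S).map (incl I M hnm) ≫ (eP n).hom = (eP m).hom ≫ incl I' M' hnm := by
    refine ModuleCat.hom_ext (LinearMap.ext fun z => Subtype.ext ?_)
    show ((I ^ n • ⊤ : Submodule A M).subtype.baseChange S)
      (((incl I M hnm).hom).baseChange S z) = ((I ^ m • ⊤ : Submodule A M).subtype.baseChange S) z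
    rw [← LinearMap.comp_apply, ← LinearMap.baseChange_comp]
    rfl
  rw [locZero_iff q (LcFinLib.lcGD q.asIdeal)]
  change ∀ x : (localCohomology q.asIdeal i).obj (pw I M m),
    ∃ a ∉ q.asIdeal, a • ((localCohomology q.asIdeal i).map (incl I M hnm)).hom x = 0
  intro x
  let y := ((localCohomology q.asIdeal i).map (incl I M hnm)).hom x
  let τ := LocCohLib.tensLcIso (R' := S) q.asIdeal i
  have h0 : (1 : S) ⊗ₜ[A] y = 0 := by
    refine (τ.app (pw I M n)).toLinearEquiv.injective (Eq.trans ?_ (map_zero _).symm)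
    refine (congr($(τ.hom.naturality (incl I M hnm)).hom ((1 : S) ⊗ₜ[A] x))).trans ?_
    let K := q.asIdeal.map (algebraMap A S)
    refine ((localCohomology K i).mapIso (eP n)).toLinearEquiv.injective (Eq.trans ?_ (map_zero _).symm)
    refine (congr($(((localCohomology K i).map_comp _ _).symm.trans ((congrArg (localCohomology K i).map hnat).trans
      ((localCohomology K i).map_comp _ _))).hom ((τ.hom.app (pw I M m)).hom ((1 : S) ⊗ₜ[A] x)))).trans ?_
    have hz : ∀ w : (localCohomology K i).obj (pw I' M' m),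
        ((localCohomology K i).map (incl I' M' hnm)).hom w = 0 := by
      have := hzero
      rw [← hqS] at this
      exact this
    exact hz _
  let a : Ideal A := LinearMap.ker (LinearMap.toSpanSingleton A _ y)
  have ha : ¬ a ≤ q.asIdeal := fun hle => by
    have hinj' : Function.Injective (a.liftQ (LinearMap.toSpanSingleton A _ y) le_rfl) :=
      LinearMap.ker_eq_bot.1 (Submodule.ker_liftQ_eq_bot _ _ _ le_rfl)
    have h1 : (1 : S) ⊗ₜ[A] (Submodule.Quotient.mk (1 : A) : A ⧸ a) = 0 := by
      refine Module.Flat.lTensor_preserves_injective_linearMap (M := S) _ hinj' ?_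
      rw [map_zero, LinearMap.lTensor_tmul, Submodule.liftQ_apply, LinearMap.toSpanSingleton_apply, one_smul]
      exact h0
    have h2 : (1 : S) ∈ a.map (algebraMap A S) := by
      rw [← Ideal.Quotient.eq_zero_iff_mem]
      exact (Algebra.TensorProduct.quotIdealMapEquivTensorQuot S a).injective (by
        rw [map_zero, Algebra.TensorProduct.quotIdealMapEquivTensorQuot_mk]
        exact h1)
    exact (IsLocalRing.maximalIdeal.isMaximal S).ne_top
      ((Ideal.eq_top_iff_one _).2 (hqS.le (Ideal.map_mono hle h2)))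
  obtain ⟨b, hba, hbq⟩ := Set.not_subset.1 ha
  exact ⟨b, hbq, hba⟩

/-- The systems `H^i_T(I^n M)` are pro-zero up to `s + 1`. -/
theorem exists_map_incl_HT_eq_zero (hd : LocCoh.CdLE A I d) (hT : StableUnderSpecialization T) (i : ℕ)
    (hi : i ≤ s + 1) (n : ℕ) : ∃ (m : ℕ) (h : n ≤ m),
      ∀ x : (localCohomology.ofDiagram.{u, u} (Dual2.idealsInDiagram T) i).obj (pw I M m),
        ((localCohomology.ofDiagram.{u, u} (Dual2.idealsInDiagram T) i).map (incl I M h)).hom x = 0 :=
  exists_map_HT_eq_zero I M hω hT i (fun k q hq => exists_locZero_incl hω hTI h4 h6 hd q hq i hi k) n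

end BootDualLib

end
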