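import Groth.Agent.BootDualLib.Descent
import Groth.Agent.HLVTLib.Main

/-!
Isolated primes: their quotient has dimension at most the cohomological dimension.
-/

set_option autoImplicit false
set_option linter.style.haveILetI false
set_option maxHeartbeats 800000

universe u

open Groth.Agent

noncomputable section

namespace BootDualLib

/-- `dim S/p' ≤ cd(S, I)` if only the closed point contains `p' + I`. -/
theorem dim_quotient_le_cd {S : Type u} [CommRing S] [IsLocalRing S] [IsNoetherianRing S] {I : Ideal S}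
    (hI : I ≠ ⊤) {d : ℕ} (hd : LocCoh.CdLE S I d) (P : PrimeSpectrum S)
    (hP : ∀ Q : PrimeSpectrum S, P ≤ Q → I ≤ Q.asIdeal → Q.asIdeal = IsLocalRing.maximalIdeal S) (n : ℕ)
    (hn : ringKrullDim (S ⧸ P.asIdeal) = n) : n ≤ d := by
  by_contra hlt
  haveI : IsLocalRing (S ⧸ P.asIdeal) := IsLocalRing.of_surjective' _ Ideal.Quotient.mk_surjective
  have h1 : LocCoh.CdLE (S ⧸ P.asIdeal) (I.map (algebraMap S (S ⧸ P.asIdeal))) d :=
    LocCohLib.cdLE_map (R' := S ⧸ P.asIdeal) (I := I) hd
  have h2 : Subsingleton (LocCoh.H (I.map (algebraMap S (S ⧸ P.asIdeal))) n (S ⧸ P.asIdeal)) :=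
    h1 _ n (by omega)
  have hrad : (I.map (algebraMap S (S ⧸ P.asIdeal))).radical =
      (IsLocalRing.maximalIdeal (S ⧸ P.asIdeal)).radical := by
    refine le_antisymm (Ideal.radical_mono (IsLocalRing.le_maximalIdeal fun htop => ?_))
      (Ideal.radical_le_radical_iff.2 ?_)
    · have h3 := congrArg (Ideal.comap (Ideal.Quotient.mk P.asIdeal)) htop
      rw [Ideal.Quotient.algebraMap_eq, Ideal.comap_map_of_surjective _ Ideal.Quotient.mk_surjective,
        ← RingHom.ker_eq_comap_bot, Ideal.mk_ker, Ideal.comap_top] at h3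
      exact (IsLocalRing.maximalIdeal.isMaximal S).ne_top (top_le_iff.1 (h3.ge.trans (sup_le
        (IsLocalRing.le_maximalIdeal hI) (IsLocalRing.le_maximalIdeal P.isPrime.ne_top))))
    · rw [Ideal.radical_eq_sInf]
      refine le_sInf fun Q ⟨hQ, hQp⟩ => ?_
      haveI := hQp
      have hQ' := hP ⟨Q.comap (Ideal.Quotient.mk P.asIdeal), inferInstance⟩
        (fun x hx => by
          show Ideal.Quotient.mk P.asIdeal x ∈ Q
          rw [Ideal.Quotient.eq_zero_iff_mem.2 hx]
          exact zero_mem _) (Ideal.map_le_iff_le_comap.1 hQ)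
      intro y hy
      obtain ⟨x, rfl⟩ := Ideal.Quotient.mk_surjective y
      exact hQ'.ge (fun hu => hy (hu.map (Ideal.Quotient.mk P.asIdeal)))
  rw [HLVTLib.subsingleton_H_congr_radical hrad] at h2
  haveI := (LocCohLib.nonvanishing n (S ⧸ P.asIdeal) (by rw [Module.supportDim_self_eq_ringKrullDim, hn])).1
  exact not_subsingleton (LocCoh.H (IsLocalRing.maximalIdeal (S ⧸ P.asIdeal)) n (S ⧸ P.asIdeal)) h2

end BootDualLib

end
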