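import Groth.Agent.DRingLib.RgammaRlim
import Groth.Agent.DerLib.KInjUse
import Groth.Agent.DualCxLib.DimFnLocal

/-!
Cohomology of a derived limit of artinian systems.
-/

set_option autoImplicit false
set_option linter.style.haveILetI false
set_option linter.unusedSectionVars false
set_option backward.isDefEq.respectTransparency false
set_option maxHeartbeats 1600000

universe u v

open CategoryTheory CategoryTheory.Limits
open CategoryTheory.Pretriangulated (Triangle)
open Groth.Agent Groth.Agent.DRingLib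
open Groth.Agent.DerLib.NilpTest (Nilp)
open DTenLib.Point (hH sg)

attribute [local instance] HasDerivedCategory.standard

noncomputable section

namespace BootDualLib

/-- Countable products in the derived category of modules. -/
theorem hasProduct_nat {A : Type u} [CommRing A] (K : ℕ → Dual.D A) : HasProduct K :=
  haveI : HasProduct fun k : ULift.{u} ℕ => K k.down := DerLib.KInjUse.hasProduct _
  hasProduct_of_equiv_of_iso (fun k : ULift.{u} ℕ => K k.down) K Equiv.ulift.symm fun _ => Iso.refl _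

/-- For artinian systems `1 - shift` is surjective. -/
theorem exists_sub_shift {A : Type*} [CommRing A] {X : ℕ → Type v} [∀ n, AddCommGroup (X n)]
    [∀ n, Module A (X n)] [∀ n, IsArtinian A (X n)] (t : ∀ {n m : ℕ}, n ≤ m → X m →ₗ[A] X n)
    (tself : ∀ n (x : X n), t (le_refl n) x = x)
    (tcomp : ∀ {a b c : ℕ} (h₁ : a ≤ b) (h₂ : b ≤ c) (x : X c), t h₁ (t h₂ x) = t (h₁.trans h₂) x)
    (z : ∀ n, X n) : ∃ y : ∀ n, X n, ∀ n, y n - t (Nat.le_succ n) (y (n + 1)) = z n := by
  classical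
  have hanti : ∀ n, Antitone fun d => LinearMap.range (t (Nat.le_add_right n d)) := fun n d d' hd => by
    rintro _ ⟨x, rfl⟩
    exact ⟨t (Nat.add_le_add_left hd n) x, tcomp _ _ x⟩
  choose N hN using fun n => IsArtinian.monotone_stabilizes
    ⟨fun d => OrderDual.toDual (LinearMap.range (t (Nat.le_add_right n d))), fun d d' hd => hanti n hd⟩
  let E : ∀ n, Submodule A (X n) := fun n => LinearMap.range (t (Nat.le_add_right n (N n)))
  have hE : ∀ n m (h : n ≤ m), n + N n ≤ m → LinearMap.range (t h) = E n := fun n m h hm => by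
    obtain ⟨d, rfl⟩ := Nat.exists_eq_add_of_le h
    exact (hN n d (by omega)).symm
  have hstep : ∀ n, ∀ y ∈ E n, ∃ z ∈ E (n + 1), t (Nat.le_succ n) z = y := fun n y hy => by
    have hm : n + 1 ≤ n + 1 + (N n + N (n + 1)) := Nat.le_add_right _ _
    rw [← hE n _ ((Nat.le_succ n).trans hm) (by omega)] at hy
    obtain ⟨x, rfl⟩ := hy
    exact ⟨t hm x, hE (n + 1) _ hm (by omega) ▸ ⟨x, rfl⟩, tcomp _ _ x⟩
  let P : ℕ → ℕ := fun n => n + 1 + (Finset.range (n + 1)).sup N
  have hP : ∀ n, n + N n ≤ P n ∧ n < P n ∧ P n ≤ P (n + 1) := fun n => by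
    have h1 : N n ≤ (Finset.range (n + 1)).sup N := Finset.le_sup (Finset.self_mem_range_succ n)
    have h2 : (Finset.range (n + 1)).sup N ≤ (Finset.range (n + 1 + 1)).sup N :=
      Finset.sup_mono (Finset.range_mono (Nat.le_succ _))
    simp only [P]
    omega
  let term : ∀ n : ℕ, ℕ → X n := fun n i => if h : n ≤ i then t h (z i) else 0
  let y : ∀ n, X n := fun n => ∑ i ∈ Finset.Ico n (P n), term n i
  let e : ∀ n, X n := fun n => -∑ i ∈ Finset.Ico (P n) (P (n + 1)), term n i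
  have he : ∀ n, e n ∈ E n := fun n => Submodule.neg_mem _ (Submodule.sum_mem _ fun i hi => by
    obtain ⟨hi, -⟩ := Finset.mem_Ico.1 hi
    have hni : n ≤ i := (Nat.le_add_right n (N n)).trans ((hP n).1.trans hi)
    simp only [term, dif_pos hni]
    exact hE n i hni ((hP n).1.trans hi) ▸ ⟨z i, rfl⟩)
  have hy : ∀ n, y n - t (Nat.le_succ n) (y (n + 1)) = z n + e n := fun n => by
    have hS : t (Nat.le_succ n) (y (n + 1)) = ∑ i ∈ Finset.Ico (n + 1) (P (n + 1)), term n i := by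
      rw [map_sum]
      refine Finset.sum_congr rfl fun i hi => ?_
      have h1 := (Finset.mem_Ico.1 hi).1
      simp only [term, dif_pos h1, dif_pos (Nat.le_of_succ_le h1), tcomp]
    have hz : term n n = z n := by simp only [term, dif_pos le_rfl, tself]
    have e1 := Finset.sum_Ico_consecutive (term n) (Nat.succ_le_of_lt (hP n).2.1) (hP n).2.2
    have e2 := Finset.sum_eq_sum_Ico_succ_bot (hP n).2.1 (term n)
    rw [hS, ← e1]
    simp only [y, e, e2, hz]
    abel
  choose w hw hwt using hstep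
  let v : ∀ n, E n := fun n => Nat.rec (motive := fun n => E n) 0
    (fun n v => ⟨w n (v.1 + -e n) (Submodule.add_mem _ v.2 (Submodule.neg_mem _ (he n))), hw _ _ _⟩) n
  refine ⟨fun n => y n - (v n).1, fun n => ?_⟩
  have hv : t (Nat.le_succ n) (v (n + 1)).1 = (v n).1 + -e n := hwt n _ _
  show y n - (v n).1 - t (Nat.le_succ n) (y (n + 1) - (v (n + 1)).1) = z n
  rw [map_sub, hv, ← sub_eq_zero]
  have := sub_eq_zero.2 (hy n)
  rw [← this]
  abel

variable {A : Type u} [CommRing A]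

section Eval

variable {K : ℕ → Dual.D A} [HasProduct K]

/-- Cohomology classes of a product are families. -/
theorem exists_hF_pi (j : ℤ) (z : ∀ n, (hF A j).obj (K n)) :
    ∃ y : (hF A j).obj (∏ᶜ K), ∀ n, ((hF A j).map (Pi.π K n)).hom y = z n := by
  choose f hf using fun n => Groth.Agent.DualCxLib.evGen_surjective (K n) j (z n)
  refine ⟨DualCxLib.evGen (∏ᶜ K) j (Pi.lift f), fun n => ?_⟩
  rw [← hf n]
  refine (congr($((hF A j).map_comp (Pi.lift f) (Pi.π K n)).hom (DualCxLib.genH A j))).symm.trans ?_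
  rw [Pi.lift_π]
  rfl

theorem hF_pi_eq_zero (j : ℤ) (y : (hF A j).obj (∏ᶜ K))
    (hy : ∀ n, ((hF A j).map (Pi.π K n)).hom y = 0) : y = 0 := by
  obtain ⟨f, rfl⟩ := Groth.Agent.DualCxLib.evGen_surjective (∏ᶜ K) j y
  have : f = 0 := Pi.hom_ext _ _ fun n => by
    refine DualCxLib.evGen_injective (K n) j ?_
    rw [zero_comp, map_zero]
    exact (congr($((hF A j).map_comp f (Pi.π K n)).hom (DualCxLib.genH A j))).trans (hy n)
  rw [this, map_zero]

variable (tt : ∀ n m : ℕ, n ≤ m → (K m ⟶ K n))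

theorem hF_shiftMap_π (j : ℤ) (y : (hF A j).obj (∏ᶜ K)) (n : ℕ) :
    ((hF A j).map (Pi.π K n)).hom (((hF A j).map (shiftMap tt)).hom y) =
      ((hF A j).map (Pi.π K n)).hom y -
        ((hF A j).map (tt n (n + 1) (Nat.le_succ n))).hom (((hF A j).map (Pi.π K (n + 1))).hom y) := by
  refine (congr($((hF A j).map_comp (shiftMap tt) (Pi.π K n)).hom y)).symm.trans ?_
  rw [Pi.lift_π, Functor.map_sub, Functor.map_comp]
  rfl

theorem surjective_hF_shiftMap (j : ℤ) [∀ n, IsArtinian A ((hF A j).obj (K n))]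
    (hcomp : ∀ n m k (h : n ≤ m) (h' : m ≤ k), tt m k h' ≫ tt n m h = tt n k (h.trans h'))
    (hid : ∀ n, tt n n (le_refl n) = 𝟙 (K n)) :
    Function.Surjective ((hF A j).map (shiftMap tt)).hom := fun z => by
  obtain ⟨y, hy⟩ := exists_sub_shift (A := A) (X := fun n => (hF A j).obj (K n))
    (fun {n m} h => ((hF A j).map (tt n m h)).hom)
    (fun n x => by rw [hid, CategoryTheory.Functor.map_id]; rfl)
    (fun {a b c} h₁ h₂ x => (congr($((hF A j).map_comp (tt b c h₂) (tt a b h₁)).hom x)).symm.trans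
      (by rw [hcomp])) fun n => ((hF A j).map (Pi.π K n)).hom z
  obtain ⟨w, hw⟩ := exists_hF_pi j y
  refine ⟨w, sub_eq_zero.1 (hF_pi_eq_zero j _ fun n => ?_)⟩
  rw [map_sub, hF_shiftMap_π, hw, hw, hy, sub_self]

variable {X L : Dual.D A} {a : L ⟶ ∏ᶜ K} {c : ∏ᶜ K ⟶ L⟦(1 : ℤ)⟧}
  (hL : Triangle.mk a (shiftMap tt) c ∈ Pretriangulated.distinguishedTriangles)
  (q : X ⟶ L) (x : ∀ n, X ⟶ K n) (hqa : ∀ n, (q ≫ a) ≫ Pi.π K n = x n)

include hL hqa

/-- No `lim¹`: the kernel of `H^j X → lim H^j K`. -/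
theorem eq_zero_of_rlim (j : ℤ) (hs : Function.Surjective ((hF A (j - 1)).map (shiftMap tt)).hom)
    (hq : Function.Injective ((hF A j).map q).hom) (y : (hF A j).obj X)
    (hy : ∀ n, ((hF A j).map (x n)).hom y = 0) : y = 0 := by
  refine hq ?_
  rw [map_zero]
  have h0 : ((hF A j).map a).hom (((hF A j).map q).hom y) = 0 := hF_pi_eq_zero j _ fun n => by
    refine Eq.trans ?_ (hy n)
    rw [← hqa n, Functor.map_comp, Functor.map_comp]
    rfl
  obtain ⟨w, hw⟩ := (ShortComplex.moduleCat_exact_iff _).1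
    (DerivedCategory.HomologySequence.exact₁ _ hL (j - 1) j (by omega)) (((hF A j).map q).hom y) h0
  obtain ⟨w', rfl⟩ := hs w
  refine hw.symm.trans ?_
  exact congr($(DerivedCategory.HomologySequence.comp_δ _ hL (j - 1) j (by omega)).hom w')

/-- Compatible families lift. -/
theorem exists_of_rlim (j : ℤ) (hq : Function.Surjective ((hF A j).map q).hom)
    (z : ∀ n, (hF A j).obj (K n))
    (hz : ∀ n, ((hF A j).map (tt n (n + 1) (Nat.le_succ n))).hom (z (n + 1)) = z n) :
    ∃ y : (hF A j).obj X, ∀ n, ((hF A j).map (x n)).hom y = z n := by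
  obtain ⟨w, hw⟩ := exists_hF_pi j z
  have h0 : ((hF A j).map (shiftMap tt)).hom w = 0 := hF_pi_eq_zero j _ fun n => by
    rw [hF_shiftMap_π, hw, hw, hz, sub_self]
  obtain ⟨l, hl⟩ := (ShortComplex.moduleCat_exact_iff _).1
    (DerivedCategory.HomologySequence.exact₂ _ hL j) w h0
  change ((hF A j).map a).hom l = w at hl
  obtain ⟨y, rfl⟩ := hq l
  refine ⟨y, fun n => ?_⟩
  rw [← hw n, ← hl, ← hqa n, Functor.map_comp, Functor.map_comp]
  rfl

end Eval

variable [IsNoetherianRing A] (J : Ideal A) [DRing.HasRgammaI J] (l : List A)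
  (hl : Ideal.span {a | a ∈ l} = J) (I : Ideal A) (M : Type u) [AddCommGroup M] [Module A M] [Module.Finite A M]

include l hl

/-- The completion of `RΓ_J M` is the derived limit, with the maps recorded. -/
theorem exists_rlim [∀ K : ℕ → Dual.D A, HasProduct K] :
    ∃ (L : Dual.D A) (q : (Φ J).obj (sF.obj (ModuleCat.of A M)) ⟶ L)
      (a : L ⟶ ∏ᶜ fun n => (Φ J).obj (sF.obj (Mq I M n)))
      (c : (∏ᶜ fun n => (Φ J).obj (sF.obj (Mq I M n))) ⟶ L⟦(1 : ℤ)⟧),
      Triangle.mk a (shiftMap (K := fun n => (Φ J).obj (sF.obj (Mq I M n)))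
        fun _ _ h => (Φ J).map (sF.map (mqT I M h))) c ∈ Pretriangulated.distinguishedTriangles ∧
      (∀ n, (q ≫ a) ≫ Pi.π (fun n => (Φ J).obj (sF.obj (Mq I M n))) n = (Φ J).map (sF.map (mqπ I M n))) ∧
      DCompLib.IsRefl I q := by
  classical
  obtain ⟨s, hs⟩ := IsNoetherian.noetherian I
  change Ideal.span (s : Set A) = I at hs
  let X := (Φ J).obj (sF.obj (ModuleCat.of A M))
  let K : ℕ → Dual.D A := fun n => (Φ J).obj (sF.obj (Mq I M n))
  let x : ∀ n, X ⟶ K n := fun n => (Φ J).map (sF.map (mqπ I M n))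
  let tt : ∀ n m : ℕ, n ≤ m → (K m ⟶ K n) := fun _ _ h => (Φ J).map (sF.map (mqT I M h))
  have hcomp : ∀ n m k (h : n ≤ m) (h' : m ≤ k), tt m k h' ≫ tt n m h = tt n k (h.trans h') :=
    fun n m k h h' => by simp only [tt, ← Functor.map_comp, mqT_T]
  have hid : ∀ n, tt n n (le_refl n) = 𝟙 (K n) := fun n => by
    simp only [tt, mqT_refl, CategoryTheory.Functor.map_id]; rfl
  have hx : ∀ n m (h : n ≤ m), x m ≫ tt n m h = x n := fun n m h => by
    simp only [x, tt, ← Functor.map_comp, mqπ_T]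
  obtain ⟨L, a, c, hL⟩ := Pretriangulated.distinguished_cocone_triangle₁ (shiftMap tt)
  obtain ⟨q, hq⟩ : ∃ q : X ⟶ L, Pi.lift x = q ≫ a :=
    Triangle.coyoneda_exact₂ _ hL (Pi.lift x) (Pi.hom_ext _ _ fun n => by
      refine (shiftMap_π tt _ n).trans ?_
      rw [Pi.lift_π, Pi.lift_π, hx, sub_self, zero_comp])
  have hqa : ∀ n, (q ≫ a) ≫ Pi.π K n = x n := fun n => by rw [← hq, Pi.lift_π]
  refine ⟨L, q, a, c, hL, hqa, ?_⟩
  have hK : ∀ n, DRing.IsDerivedComplete I (K n) := fun n =>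
    hs ▸ DCompLib.isDerivedComplete_of_nilp s fun f hf => ⟨n, kill_hom J l hl I M (hs ▸ Ideal.subset_span hf)⟩
  have hP : DRing.IsDerivedComplete I (∏ᶜ K) := fun f hf => (DCompLib.comp_iff_forall f).2 fun Y =>
    ⟨fun y y' => Pi.hom_ext _ _ fun n => ((DCompLib.comp_iff_forall f).1 (hK n f hf) Y).elim _ _⟩
  have hL1 : DRing.IsDerivedComplete I (L⟦(1 : ℤ)⟧) :=
    DCompLib.isDerivedComplete_obj₃ (Triangle.mk a (shiftMap tt) c).rotate
      (Pretriangulated.rot_of_distTriang _ hL) hP hP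
  have hLc : DRing.IsDerivedComplete I L :=
    (DRing.IsDerivedComplete I).prop_of_iso
      ((shiftEquiv' (Dual.D A) (1 : ℤ) (-1) (by omega)).unitIso.app L).symm
      ((DRing.IsDerivedComplete I).le_shift (-1 : ℤ) _ hL1)
  have hb : ∀ T : Dual.D A, (∀ f ∈ s, Nilp f T) → Function.Bijective fun y : T ⟶ X => y ≫ q := by
    intro T hT
    obtain ⟨⟨n₀, hn₀⟩, h2⟩ := pro_iso J l hl I M s hs T hT
    obtain ⟨-, h2'⟩ := pro_iso J l hl I M s hs (T⟦(1 : ℤ)⟧)
      fun f hf => DerLib.NilpTest.nilp_shift (hT f hf) 1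
    choose φ hφ hψ using h2
    choose φ' hφ' hψ' using h2'
    exact bijective_to_rlim tt x hcomp hid hx φ hφ hψ n₀ (hn₀ n₀ le_rfl)
      (surjective_shiftMap tt x hcomp hid hx φ' hφ' hψ') hL q hqa
  obtain ⟨C, p, r, hC⟩ := Pretriangulated.distinguished_cocone_triangle q
  obtain ⟨B, Z, u, r', t', hS, hB, hZ⟩ := DCompLib.exists_decomp (I := I) s.toList
    (fun f hf => hs ▸ Ideal.subset_span (Finset.mem_toList.1 hf)) C
  refine DCompLib.isRefl_of_triangle hC hLc ?_
  refine DerLib.NilpTest.leftOrthogonal_of_test (R := A) (DRing.IsDerivedComplete I) s.toList ?_ ?_ hS ?_ hZ ?_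
  · intro K' hK'
    exact hs ▸ DCompLib.isDerivedComplete_of_nilp s fun f hf => hK' f (Finset.mem_toList.2 hf)
  · intro f hf K' hK' hi
    exact DCompLib.isZero_of_isIso_smul s (Finset.mem_toList.1 hf) (hs.symm ▸ hK') hi
  · exact hs ▸ DCompLib.isDerivedComplete_span_iff.2 fun f hf => hB f (Finset.mem_toList.2 hf)
  · intro T hT0
    exact DerLib.NilpTest.subsingleton_obj₃ hC (hb T fun f hf => hT0 f (Finset.mem_toList.2 hf)).2
      (hb _ fun f hf => DerLib.NilpTest.nilp_shift (hT0 f (Finset.mem_toList.2 hf)) _).1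

end BootDualLib

end
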