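import Groth.Agent.BootDualLib.LocalExt

/-!
From pro-zero local cohomology at the points of `T` to pro-zero `H_T`.
-/

set_option autoImplicit false
set_option linter.unusedSectionVars false
set_option maxHeartbeats 1000000
universe u

open CategoryTheory CategoryTheory.Limits
open Groth.Agent
open DTenLib.Point (hH sg)

attribute [local instance] HasDerivedCategory.standard

noncomputable section

namespace BootDualLib

open Groth.Agent.DualCxLib LcFinLib

variable {A : Type u} [CommRing A] (I : Ideal A) (M : Type u) [AddCommGroup M] [Module A M]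

/-- `I^n M`. -/
abbrev pw (n : ℕ) : ModuleCat.{u} A := ModuleCat.of A (I ^ n • (⊤ : Submodule A M) : Submodule A M)

/-- `I^m M → I^n M`. -/
abbrev incl {m n : ℕ} (h : n ≤ m) : pw I M m ⟶ pw I M n :=
  ModuleCat.ofHom (Submodule.inclusion (Submodule.smul_mono_left (Ideal.pow_le_pow_right h)))

theorem incl_comp {a b c : ℕ} (h : a ≤ b) (h' : b ≤ c) : incl I M h' ≫ incl I M h = incl I M (h.trans h') :=
  rfl

variable [IsNoetherianRing A] [Module.Finite A M]

instance finite_pw (n : ℕ) : Module.Finite A (pw I M n) := Module.Finite.of_fg (IsNoetherian.noetherian _)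

theorem exists_uniform {ω : Dual.D A} (hω : Dual.IsDualizing A ω) (T : Set (PrimeSpectrum A)) (i n : ℕ)
    (hloc : ∀ q ∈ T, ∃ (m : ℕ) (h : n ≤ m), LocZero q i (incl I M h)) :
    ∃ (m : ℕ) (h : n ≤ m), ∀ q ∈ T, LocZero q i (incl I M h) := by
  classical
  obtain ⟨lo, hi, hb⟩ := exists_deg_bounds hω
  have key : ∀ j : ℤ, ∃ k : ℕ, ∀ m (h : n ≤ m) (v : Ext ω (pw I M n) j),
      extMap ω (incl I M h) j v = 0 → extMap ω (incl I M (Nat.le_add_right n k)) j v = 0 := fun j => by
    haveI : IsNoetherian A (Ext ω (pw I M n) j) := Ext_finite hω (pw I M n) j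
    let K : ℕ →o Submodule A (Ext ω (pw I M n) j) :=
      ⟨fun k => LinearMap.ker (extMap ω (incl I M (Nat.le_add_right n k)) j), fun a b hab v hv => by
        show extMap ω (incl I M (Nat.le_add_right n b)) j v = 0
        rw [← incl_comp I M (Nat.le_add_right n a) (Nat.add_le_add_left hab n)]
        show (DerivedCategory.singleFunctor (ModuleCat.{u} A) 0).map (_ ≫ _) ≫ v = 0
        rw [Functor.map_comp, Category.assoc]
        exact (congrArg (_ ≫ ·) hv).trans comp_zero⟩
    obtain ⟨k, hk⟩ := monotone_stabilizes_iff_noetherian.2 inferInstance K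
    refine ⟨k, fun m h v hv => ?_⟩
    obtain ⟨a, rfl⟩ := Nat.exists_eq_add_of_le h
    by_cases hak : a ≤ k
    · exact K.2 hak hv
    · have := hk a (by omega)
      show v ∈ K k
      rw [this]
      exact hv
  choose k hk using key
  let N := (Finset.Icc (lo - i) (hi - i)).sup k
  refine ⟨n + N, Nat.le_add_right n N, fun q hq => (locZero_iff_ext hω q _ i).2 fun v => ?_⟩
  obtain ⟨m, h, hm⟩ := hloc q hq
  obtain ⟨s, hs, hsv⟩ := (locZero_iff_ext hω q _ i).1 hm v
  refine ⟨s, hs, ?_⟩
  rw [← map_smul] at hsv ⊢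
  have hle : k (deg hω q - i) ≤ N := Finset.le_sup (f := k) (Finset.mem_Icc.2 (by have := hb q; omega))
  rw [← incl_comp I M (Nat.le_add_right n _) (Nat.add_le_add_left hle n)]
  show (DerivedCategory.singleFunctor (ModuleCat.{u} A) 0).map (_ ≫ _) ≫ _ = 0
  rw [Functor.map_comp, Category.assoc]
  exact (congrArg (_ ≫ ·) (hk _ m h _ hsv)).trans comp_zero

/-- Local pro-vanishing gives pro-vanishing of `H_T`. -/
theorem exists_map_HT_eq_zero {ω : Dual.D A} (hω : Dual.IsDualizing A ω) {T : Set (PrimeSpectrum A)}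
    (hT : StableUnderSpecialization T) (i : ℕ)
    (hloc : ∀ n, ∀ q ∈ T, ∃ (m : ℕ) (h : n ≤ m), LocZero q i (incl I M h)) (n : ℕ) :
    ∃ (m : ℕ) (h : n ≤ m), ∀ x : (localCohomology.ofDiagram.{u, u} (Dual2.idealsInDiagram T) i).obj (pw I M m),
      ((localCohomology.ofDiagram.{u, u} (Dual2.idealsInDiagram T) i).map (incl I M h)).hom x = 0 := by
  obtain ⟨lo, hi, hb⟩ := exists_deg_bounds hω
  choose g hg hgz using fun a => exists_uniform I M hω T i a (hloc a)
  let Ns : ℕ → ℕ := fun k => g^[k] n
  have hNs : ∀ k, Ns k ≤ Ns (k + 1) := fun k => by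
    show g^[k] n ≤ g^[k + 1] n
    rw [Function.iterate_succ_apply']
    exact hg _
  have hmono : Monotone Ns := monotone_nat_of_le_succ hNs
  have hloc' : ∀ k, ∀ q ∈ T, LocZero q i (incl I M (hNs k)) := fun k q hq => by
    have : ∀ {a b : ℕ} (e : a = b) (h : Ns k ≤ a), LocZero q i (incl I M h) → ∀ h' : Ns k ≤ b,
        LocZero q i (incl I M h') := fun {a b} e h hz h' => by subst e; exact hz
    exact this (Function.iterate_succ_apply' g k n).symm (hg _) (hgz _ q hq) _
  let N := (hi - lo + 1).toNat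
  refine ⟨Ns (0 + N), hmono (Nat.zero_le (0 + N)), fun x => ?_⟩
  have hchain : ∀ N k, chain (fun a => pw I M (Ns a)) (fun a => incl I M (hNs a)) N k =
      incl I M (hmono (Nat.le_add_right k N)) := fun N => by
    induction N with
    | zero => exact fun k => rfl
    | succ N ih => exact fun k => (congrArg (incl I M (hNs (k + N)) ≫ ·) (ih k)).trans (incl_comp I M _ _)
  have h := map_chain_eq_zero (fun a => pw I M (Ns a)) (fun a => incl I M (hNs a)) (htGD T) hT
    (deg hω) (deg_strictMono hω) lo hi hb i hloc' 0 x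
  rw [hchain] at h
  exact h

end BootDualLib
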