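import Groth.Agent.BootDualLib.RgNat
import Groth.Agent.BootDualLib.RlimEval
import Groth.Agent.BootDualLib.Uniform
import Groth.Agent.LcAlgLib.Main
import Groth.Agent.S8799

/-!
The pro-vanishing of `H^i_m(I^n M)` over a complete local ring.
-/

set_option autoImplicit false
set_option linter.style.haveILetI false
set_option linter.unusedSectionVars false
set_option maxHeartbeats 1600000

universe u

open CategoryTheory CategoryTheory.Limits
open CategoryTheory.Pretriangulated (Triangle)
open Groth.Agent Groth.Agent.DRingLib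

attribute [local instance] HasDerivedCategory.standard

noncomputable section

namespace BootDualLib

variable {A : Type u} [CommRing A] [IsNoetherianRing A]

/-- With torsion cohomology up to `s` the coreflection is injective in degree `s + 1`. -/
theorem injective_hn_coref (l : List A) (s : ℤ) {R X : Dual.D A} {u : R ⟶ X} (hu : IsCoref l u)
    (h : ∀ g ∈ l, ∀ i, i ≤ s → IsTorsM g (Dual.HD A X i)) :
    Function.Injective ((hF A (s + 1)).map u).hom := by
  have key : ∀ m : List A, (∀ g ∈ m, g ∈ l) → ∃ (R' : Dual.D A) (u' : R' ⟶ X), IsCoref m u' ∧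
      Mono ((hF A (s + 1)).map u') := by
    intro m hm
    induction m with
    | nil =>
      exact ⟨X, 𝟙 X, isCoref_id fun g hg => absurd hg List.not_mem_nil, by
        rw [CategoryTheory.Functor.map_id]; infer_instance⟩
    | cons g m ih =>
      obtain ⟨R, u, hu, hmono⟩ := ih fun g' hg' => hm g' (List.mem_cons_of_mem _ hg')
      obtain ⟨R', v, q, hv⟩ := Pretriangulated.distinguished_cocone_triangle₁ (toLocD g R)
      have hb := LcAlgLib.bijective_hn_coref m s hu
        (fun g' hg' => h g' (hm g' (List.mem_cons_of_mem _ hg'))) s le_rfl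
      have hZ : IsZero ((hF A s).obj ((locD g).obj R)) := by
        haveI := isLocalizedModule_HD_toLocD (g := g) R s
        refine @ModuleCat.isZero_of_subsingleton _ _ _ (subsingleton_of_forall_eq 0 fun y => ?_)
        obtain ⟨⟨x, ⟨_, n, rfl⟩⟩, hn⟩ :=
          IsLocalizedModule.surj (Submonoid.powers g) ((hF A s).map (toLocD g R)).hom y
        obtain ⟨k, hk⟩ := h g (hm g List.mem_cons_self) s le_rfl (((hF A s).map u).hom x)
        have hk' : g ^ k • x = 0 := hb.1 ((map_smul _ _ _).trans (hk.trans (map_zero _).symm))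
        refine IsLocalizedModule.smul_injective ((hF A s).map (toLocD g R)).hom
          (⟨g ^ (k + n), k + n, rfl⟩ : Submonoid.powers g) ?_
        show g ^ (k + n) • y = g ^ (k + n) • 0
        rw [smul_zero, pow_add, mul_smul, show g ^ n • y = ((hF A s).map (toLocD g R)).hom x from hn, ← map_smul,
          hk', map_zero]
      refine ⟨R', v ≫ u, isCoref_step hu hv, ?_⟩
      haveI : Mono ((hF A (s + 1)).map v) :=
        (DerivedCategory.HomologySequence.mono_homologyMap_mor₁_iff _ hv s (s + 1) rfl).mpr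
          (hZ.eq_of_src _ _)
      rw [Functor.map_comp]
      infer_instance
  obtain ⟨R', u', hu', hmono⟩ := key l fun g hg => hg
  obtain ⟨e, he⟩ := hu.exists_iso hu'
  rw [← he, Functor.map_comp]
  exact (ModuleCat.mono_iff_injective _).1 inferInstance

variable {I : Ideal A} [DRing.HasDerivedCompletion I]

/-- For a complete object the coreflection coreflects the completed coreflection. -/
theorem isCoref_unit (l : List A) {R X : Dual.D A} {u : R ⟶ X} (hu : IsCoref l u)
    (hX : DRing.IsDerivedComplete I X) : IsCoref l (DRing.toDerivedCompletion I R) := by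
  obtain ⟨R₁, u₁, hu₁, hu₁'⟩ := LcAlgLib.exists_coref_cF (I := I) l X
  obtain ⟨e, he⟩ := hu.exists_iso hu₁
  have hX' : DCompLib.IsRefl I (𝟙 X) := ⟨hX, fun Y _ => by simp only [Category.id_comp]; exact Function.bijective_id⟩
  obtain ⟨c, hc⟩ := exists_iso_cF hX'
  rw [Category.id_comp] at hc
  refine ⟨hu.1, fun T hT => ?_⟩
  have hn : DRing.toDerivedCompletion I R ≫ (cF I).map u = u ≫ c.hom :=
    ((DRing.derivedCompletionAdj I).unit.naturality u).symm.trans (congrArg (u ≫ ·) hc.symm)
  have hbu : Function.Bijective fun t : T ⟶ (cF I).obj R => t ≫ (cF I).map u := by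
    have := (hu₁' T hT).comp (((cF I).mapIso e).homToEquiv (Z := T)).bijective
    convert this using 1
    funext t
    simp only [Function.comp_apply, Iso.homToEquiv, Equiv.coe_fn_mk, Functor.mapIso_hom, Category.assoc,
      ← Functor.map_comp, he]
  refine (Function.Bijective.of_comp_iff' hbu _).1 ?_
  have := (c.homToEquiv (Z := T)).bijective.comp (hu.2 T hT)
  convert this using 1
  funext t
  simp only [Function.comp_apply, Iso.homToEquiv, Equiv.coe_fn_mk, Category.assoc, hn]

omit [DRing.HasDerivedCompletion I]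

section Case

variable [IsLocalRing A] [IsAdicComplete I A] (M : Type u) [AddCommGroup M] [Module A M] [Module.Finite A M]
  (hdc : ∃ ω : Dual.D A, Dual.IsDualizing A ω) (d s : ℕ) (hd : LocCoh.CdLE A I d)
  (h4 : ∀ p : PrimeSpectrum A, ¬ I ≤ p.asIdeal →
    (∃ r : PrimeSpectrum A, p ≤ r ∧ I ≤ r.asIdeal ∧ r.asIdeal ≠ IsLocalRing.maximalIdeal A) →
    (s : ℕ∞) ≤ LocCoh.depth (Localization.AtPrime p.asIdeal) (LocalizedModule p.asIdeal.primeCompl M) ∨
      (((d + s : ℕ) : ℕ∞) : WithBot ℕ∞) < ((LocCoh.depth (Localization.AtPrime p.asIdeal)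
        (LocalizedModule p.asIdeal.primeCompl M) : ℕ∞) : WithBot ℕ∞) + ringKrullDim (A ⧸ p.asIdeal))
  (h6 : ∀ p : PrimeSpectrum A, ¬ I ≤ p.asIdeal →
    (∀ r : PrimeSpectrum A, p ≤ r → I ≤ r.asIdeal → r.asIdeal = IsLocalRing.maximalIdeal A) →
    (s : ℕ∞) < LocCoh.depth (Localization.AtPrime p.asIdeal) (LocalizedModule p.asIdeal.primeCompl M))

include hdc hd h4 h6

local notation "𝔪" => IsLocalRing.maximalIdeal A

/-- The completion of `RΓ_m M` has torsion cohomology up to `s`. -/
theorem isTorsM_completion [DRing.HasRgammaI 𝔪] [DRing.HasDerivedCompletion I] {g : A} (hg : g ∈ 𝔪)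
    (j : ℤ) (hj : j ≤ s) :
    IsTorsM g (Dual.HD A ((cF I).obj ((DRing.RgammaI 𝔪).obj (Dual.inD A M))) j) := by
  obtain ⟨ω, hω⟩ := hdc
  let Y := (cF I).obj ((DRing.RgammaI 𝔪).obj (Dual.inD A M))
  let J := LcAlgLib.torsIdeal (s : ℤ) Y ⊓ 𝔪
  haveI : DRing.HasRgammaI J :=
    DerLib.KInjDerived.hasRightDerivedFunctor _ (DerLib.KInjDerived.enoughKInj _)
  have hJm : J ≤ 𝔪 := inf_le_right
  have hIm : I ≤ 𝔪 := by
    have := IsAdicComplete.le_jacobson_bot I
    rwa [IsLocalRing.jacobson_eq_maximalIdeal ⊥ bot_ne_top] at this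
  have hV : ∀ r : PrimeSpectrum A, J ≤ r.asIdeal → I ≤ r.asIdeal → r.asIdeal = 𝔪 := fun r h1 h2 => by
    rcases (Ideal.IsPrime.inf_le r.isPrime).1 h1 with h | h
    · exact LcAlgLib.eq_maximalIdeal_of_torsIdeal_le ⟨ω, hω⟩ M s d hd h4 r h2 h
    · exact ((IsLocalRing.maximalIdeal.isMaximal A).eq_of_le r.isPrime.ne_top h).symm
  have hrad : 𝔪 ≤ (J ⊔ I).radical := by
    rw [Ideal.radical_eq_sInf]
    exact le_sInf fun q ⟨hq, hqp⟩ =>
      (hV ⟨q, hqp⟩ (le_sup_left.trans hq) (le_sup_right.trans hq)).ge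
  obtain ⟨e⟩ := LcAlgLib.nonempty_completion_iso (I := I) J 𝔪
    ((sup_le_sup_right hJm I).trans Ideal.le_radical)
    (sup_le hrad (le_sup_right.trans Ideal.le_radical)) (Dual.inD A M)
  obtain ⟨l, hl⟩ := DRingLib.exists_list_span' J
  have hb := LcAlgLib.bijective_hn_unit l (DRingLib.isCoref_RgammaIε l J hl (Dual.inD A M))
    (DRingLib.isDerivedComplete_inD (I := I) M) (s : ℤ) (fun g hg j hj => by
      refine DRingLib.isTorsM_of_surjective ((DRingLib.hF A j).mapIso e).inv
        (((DRingLib.hF A j).mapIso e).symm.toLinearEquiv.surjective) ?_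
      exact (LcAlgLib.mem_torsIdeal_iff (s : ℤ) Y g).1 (Ideal.mem_inf.1 (show g ∈ J from hl.le (Ideal.subset_span hg))).1 j hj) j hj
  have key : IsTorsM g (Dual.HD A ((DRing.RgammaI J).obj (Dual.inD A M)) j) := by
    rcases lt_or_ge j 0 with h0 | h0
    · haveI := (LcCompLib.nonempty_HD_RgammaI_inD J M).2 j h0
      exact fun x => ⟨0, Subsingleton.elim _ _⟩
    · obtain ⟨i, rfl⟩ := Int.eq_ofNat_of_zero_le h0
      have hcmp := LcFinLib.bijective_HmapOfLE hω M hJm s (fun q hq hq' => h6 q
        (fun hI => hq' (hV q hq hI).ge) fun r hr hI => hV r (hq.trans hr) hI) i (by omega)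
      have hm : IsTorsM g ((localCohomology 𝔪 i).obj (ModuleCat.of A M)) :=
        isTorsM_of_surjective (rgIsoApp 𝔪 (ModuleCat.of A M) i).hom
          (rgIsoApp 𝔪 (ModuleCat.of A M) i).toLinearEquiv.surjective
          (LcAlgLib.isTorsM_RgammaI 𝔪 (Dual.inD A M) hg i)
      exact isTorsM_of_surjective (rgIsoApp J (ModuleCat.of A M) i).inv
        (rgIsoApp J (ModuleCat.of A M) i).symm.toLinearEquiv.surjective
        (isTorsM_of_surjective ((Dual2.HmapOfLE hJm i).app (ModuleCat.of A M)) hcmp.2 hm)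
  exact isTorsM_of_surjective (((hF A j).map (DRing.toDerivedCompletion I _)) ≫ ((hF A j).mapIso e).hom)
    (fun y => by
      obtain ⟨y', rfl⟩ := ((hF A j).mapIso e).toLinearEquiv.surjective y
      obtain ⟨x, rfl⟩ := hb.2 y'
      exact ⟨x, rfl⟩) key

/-- `H^i_m M → lim H^i_m(M/I^n M)` is injective for `i ≤ s + 1` and bijective for `i ≤ s`. -/
theorem injective_bijective_lim (i : ℕ) :
    (i ≤ s + 1 → ∀ x : (localCohomology 𝔪 i).obj (ModuleCat.of A M),
      (∀ n, ((localCohomology 𝔪 i).map (mqπ I M n)).hom x = 0) → x = 0) ∧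
    (i ≤ s → ∀ z : ∀ n, (localCohomology 𝔪 i).obj (Mq I M n),
      (∀ n, ((localCohomology 𝔪 i).map (mqT I M (Nat.le_succ n))).hom (z (n + 1)) = z n) →
      ∃ x, ∀ n, ((localCohomology 𝔪 i).map (mqπ I M n)).hom x = z n) := by
  haveI : DRing.HasRgammaI 𝔪 :=
    DerLib.KInjDerived.hasRightDerivedFunctor _ (DerLib.KInjDerived.enoughKInj _)
  haveI : DRing.HasDerivedCompletion I := DCompLib.hasDerivedCompletion (IsNoetherian.noetherian I)
  haveI := hasProduct_nat (A := A)
  obtain ⟨l, hl⟩ := DRingLib.exists_list_span' 𝔪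
  obtain ⟨L, q, a, c, hL, hqa, hq⟩ := exists_rlim 𝔪 l hl I M
  obtain ⟨e, he⟩ := exists_iso_cF hq
  let R := (DRing.RgammaI 𝔪).obj (Dual.inD A M)
  have hu := isCoref_unit (I := I) l (isCoref_RgammaIε l 𝔪 hl (Dual.inD A M))
    (DRingLib.isDerivedComplete_inD (I := I) M)
  have htor : ∀ g ∈ l, ∀ j, j ≤ (s : ℤ) → IsTorsM g (Dual.HD A ((cF I).obj R) j) := fun g hg j hj =>
    isTorsM_completion M hdc d s hd h4 h6 (hl.le (Ideal.subset_span hg)) j hj
  have hqe : q = DRing.toDerivedCompletion I R ≫ e.inv := by rw [← he, Category.assoc, e.hom_inv_id, Category.comp_id]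
  have hqj : ∀ j : ℤ, ((hF A j).map q).hom =
      ((hF A j).map e.inv).hom ∘ₗ ((hF A j).map (DRing.toDerivedCompletion I R)).hom := fun j => by
    rw [hqe, Functor.map_comp]; rfl
  let θ := fun (N : ModuleCat.{u} A) (k : ℕ) => rgIsoApp 𝔪 N k
  have hart : ∀ (j : ℤ) n, IsArtinian A ((hF A j).obj ((Φ 𝔪).obj (sF.obj (Mq I M n)))) := fun j n => by
    rcases lt_or_ge j 0 with h0 | h0
    · haveI : Subsingleton ((hF A j).obj ((Φ 𝔪).obj (sF.obj (Mq I M n)))) :=
        ModuleCat.subsingleton_of_isZero (isZero_hF_RgammaI_neg 𝔪 (Mq I M n) j h0)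
      infer_instance
    · obtain ⟨k, rfl⟩ := Int.eq_ofNat_of_zero_le h0
      haveI : IsArtinian A ((localCohomology 𝔪 k).obj (Mq I M n)) := LocCohLib.isArtinian_H k (Mq I M n)
      exact isArtinian_of_linearEquiv (θ (Mq I M n) k).toLinearEquiv.symm
  constructor
  · intro hi x hx
    haveI := fun n => hart ((i : ℤ) - 1) n
    have hs : Function.Surjective ((hF A ((i : ℤ) - 1)).map (shiftMap (K := fun n => (Φ 𝔪).obj (sF.obj (Mq I M n)))
        fun _ _ h => (Φ 𝔪).map (sF.map (mqT I M h)))).hom :=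
      surjective_hF_shiftMap _ _ (fun n m k h h' => by simp only [← Functor.map_comp, mqT_T])
        fun n => by simp only [mqT_refl, CategoryTheory.Functor.map_id]
    have hinj : Function.Injective ((hF A (i : ℤ)).map q).hom := by
      rw [hqj]
      refine ((hF A (i : ℤ)).mapIso e).symm.toLinearEquiv.injective.comp ?_
      rcases Nat.lt_or_ge i (s + 1) with h | h
      · exact (LcAlgLib.bijective_hn_coref l (s : ℤ) hu htor i (by omega)).1
      · rw [show (i : ℤ) = (s : ℤ) + 1 by omega]
        exact injective_hn_coref l (s : ℤ) hu htor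
    have h0 : (θ (ModuleCat.of A M) i).inv.hom x = 0 :=
      eq_zero_of_rlim _ hL q _ hqa (i : ℤ) hs hinj _ fun n => by
        refine (θ (Mq I M n) i).toLinearEquiv.injective ?_
        rw [map_zero]
        refine (congr($(rgIsoApp_natural 𝔪 (mqπ I M n) i).hom _)).trans ?_
        refine (congrArg ((localCohomology 𝔪 i).map (mqπ I M n)).hom ?_).trans (hx n)
        exact (θ (ModuleCat.of A M) i).toLinearEquiv.apply_symm_apply x
    exact (θ (ModuleCat.of A M) i).symm.toLinearEquiv.injective (h0.trans (map_zero _).symm)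
  · intro hi z hz
    have hsurj : Function.Surjective ((hF A (i : ℤ)).map q).hom := by
      rw [hqj]
      exact ((hF A (i : ℤ)).mapIso e).symm.toLinearEquiv.surjective.comp
        (LcAlgLib.bijective_hn_coref l (s : ℤ) hu htor i (by omega)).2
    obtain ⟨y, hy⟩ := exists_of_rlim _ hL q _ hqa (i : ℤ) hsurj (fun n => (θ (Mq I M n) i).inv.hom (z n))
      fun n => by
        refine (θ (Mq I M n) i).toLinearEquiv.injective ?_
        refine (congr($(rgIsoApp_natural 𝔪 (mqT I M (Nat.le_succ n)) i).hom _)).trans ?_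
        refine ((congrArg ((localCohomology 𝔪 i).map (mqT I M (Nat.le_succ n))).hom
          ((θ (Mq I M (n + 1)) i).toLinearEquiv.apply_symm_apply (z (n + 1)))).trans (hz n)).trans ?_
        exact ((θ (Mq I M n) i).toLinearEquiv.apply_symm_apply (z n)).symm
    refine ⟨(θ (ModuleCat.of A M) i).hom.hom y, fun n => ?_⟩
    refine (congr($(rgIsoApp_natural 𝔪 (mqπ I M n) i).hom y)).symm.trans ?_
    exact (congrArg (θ (Mq I M n) i).hom.hom (hy n)).trans ((θ (Mq I M n) i).toLinearEquiv.apply_symm_apply (z n))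

/-- The local cohomology of the powers is pro-zero up to `s + 1`. -/
theorem exists_map_incl_eq_zero (i : ℕ) (hi : i ≤ s + 1) (n : ℕ) :
    ∃ (m : ℕ) (h : n ≤ m), ∀ x : (localCohomology 𝔪 i).obj (pw I M m),
      ((localCohomology 𝔪 i).map (incl I M h)).hom x = 0 := by
  let F := localCohomology 𝔪 i
  let sub : ∀ k, pw I M k ⟶ ModuleCat.of A M := fun k => ModuleCat.ofHom (I ^ k • ⊤ : Submodule A M).subtype
  have hw : ∀ k, sub k ≫ mqπ I M k = 0 := fun k => by
    ext ⟨q, hq⟩
    exact (Submodule.Quotient.mk_eq_zero _).2 hq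
  let SES : ℕ → ShortComplex (ModuleCat.{u} A) := fun k => ShortComplex.mk _ _ (hw k)
  have hSES : ∀ k, (SES k).ShortExact := fun k =>
    { exact := (ShortComplex.moduleCat_exact_iff _).2 fun q hq =>
        ⟨⟨q, (Submodule.Quotient.mk_eq_zero _).1 hq⟩, rfl⟩
      mono_f := (ModuleCat.mono_iff_injective _).2 Subtype.val_injective
      epi_g := (ModuleCat.epi_iff_surjective _).2 (Submodule.mkQ_surjective _) }
  let D := LocCohLib.lcDelta 𝔪
  -- the kernels stabilise at zero
  haveI : IsArtinian A (F.obj (ModuleCat.of A M)) := LocCohLib.isArtinian_H i M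
  obtain ⟨k₀, hk₀⟩ := IsArtinian.monotone_stabilizes
    ⟨fun k => OrderDual.toDual (LinearMap.ker (F.map (mqπ I M k)).hom), fun a b hab x hx => by
      show (F.map (mqπ I M a)).hom x = 0
      rw [← mqπ_T I M hab, Functor.map_comp]
      exact (congrArg (F.map (mqT I M hab)).hom hx).trans (map_zero _)⟩
  have hker : ∀ k, k₀ ≤ k → ∀ x : F.obj (ModuleCat.of A M), (F.map (mqπ I M k)).hom x = 0 → x = 0 := by
    intro k hk x hx
    refine ((injective_bijective_lim M hdc d s hd h4 h6 i).1 hi x) fun b => ?_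
    have hx' : x ∈ LinearMap.ker (F.map (mqπ I M (max k b))).hom := by
      have e1 := congrArg OrderDual.ofDual (hk₀ k hk)
      have e2 := congrArg OrderDual.ofDual (hk₀ (max k b) (hk.trans (le_max_left _ _)))
      exact (SetLike.ext_iff.1 (e1.symm.trans e2) x).1 hx
    rw [← mqπ_T I M (le_max_right k b), Functor.map_comp]
    exact (congrArg (F.map (mqT I M (le_max_right k b))).hom hx').trans (map_zero _)
  have hsub : ∀ k, k₀ ≤ k → ∀ x : F.obj (pw I M k), (F.map (sub k)).hom x = 0 := fun k hk x => by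
    refine hker k hk _ ?_
    refine (congr($(F.map_comp (sub k) (mqπ I M k)).hom x)).symm.trans ?_
    haveI := D.preservesZero i
    rw [hw]
    exact congr($((D.F i).map_zero (pw I M k) (Mq I M k)).hom x)
  cases i with
  | zero =>
    refine ⟨max n k₀, le_max_left _ _, fun x => ?_⟩
    have hx : x = 0 := (ModuleCat.mono_iff_injective _).1 (D.mono₀ (hSES (max n k₀)))
      ((hsub _ (le_max_right _ _) x).trans (map_zero _).symm)
    rw [hx, map_zero]
  | succ j =>
    haveI : ∀ b, IsArtinian A ((localCohomology 𝔪 j).obj (Mq I M b)) := fun b =>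
      LocCohLib.isArtinian_H j (Mq I M b)
    haveI : IsArtinian A ((localCohomology 𝔪 j).obj (ModuleCat.of A M)) := LocCohLib.isArtinian_H j M
    obtain ⟨i₁, r, -, hr⟩ := Groth.Agent.S8799.key (fun b => ((localCohomology 𝔪 j).obj (Mq I M b) : Type u))
      (fun {a b} h => ((localCohomology 𝔪 j).map (mqT I M h)).hom)
      (fun b x => by rw [mqT_refl, CategoryTheory.Functor.map_id]; rfl)
      (fun {a b c} h₁ h₂ x => (congr($((localCohomology 𝔪 j).map_comp (mqT I M h₂) (mqT I M h₁)).hom x)).symm.trans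
        (by rw [mqT_T]))
      ((localCohomology 𝔪 j).obj (ModuleCat.of A M)) (fun b => ((localCohomology 𝔪 j).map (mqπ I M b)).hom)
      (fun {a b} h x => (congr($((localCohomology 𝔪 j).map_comp (mqπ I M b) (mqT I M h)).hom x)).symm.trans
        (by rw [mqπ_T]))
      ((injective_bijective_lim M hdc d s hd h4 h6 j).1 (by omega))
      (fun z hz => (injective_bijective_lim M hdc d s hd h4 h6 j).2 (by omega) z
        fun b => hz b (b + 1) (Nat.le_succ b))
    obtain ⟨k, hk1, hk2, hk⟩ := hr n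
    refine ⟨max k k₀, hk2.trans (le_max_left _ _), fun x => ?_⟩
    let m := max k k₀
    obtain ⟨w, hwx⟩ := (ShortComplex.moduleCat_exact_iff _).1 (D.exact₁ (hSES m) j) x
      (hsub m (le_max_right _ _) x)
    refine (congrArg ((localCohomology 𝔪 (j + 1)).map _).hom hwx.symm).trans ?_
    let φ : SES m ⟶ SES n :=
      { τ₁ := incl I M (hk2.trans (le_max_left _ _))
        τ₂ := 𝟙 _
        τ₃ := mqT I M (hk2.trans (le_max_left _ _))
        comm₁₂ := rfl
        comm₂₃ := rfl }
    refine (congr($(D.δ_natural (hSES m) (hSES n) φ j).hom w)).trans ?_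
    have hw' : ((localCohomology 𝔪 j).map φ.τ₃).hom w =
        ((localCohomology 𝔪 j).map (mqπ I M n)).hom
          (r (((localCohomology 𝔪 j).map (mqT I M hk1)).hom
            (((localCohomology 𝔪 j).map (mqT I M (le_max_left k k₀))).hom w))) := by
      refine Eq.trans ?_ (hk (((localCohomology 𝔪 j).map (mqT I M (le_max_left k k₀))).hom w))
      refine Eq.trans ?_ (congr($((localCohomology 𝔪 j).map_comp (mqT I M (le_max_left k k₀)) (mqT I M hk2)).hom w))
      exact congrArg (fun f : Mq I M m ⟶ Mq I M n => ((localCohomology 𝔪 j).map f).hom w) (mqT_T I M _ _).symm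
    refine (congrArg (D.δ (hSES n) j).hom hw').trans ?_
    exact congr($(D.map_comp_δ (hSES n) j).hom _)

end Case

end BootDualLib

end
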