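import Groth.Agent.FlatExtLib.Dual
import Groth.Agent.LocCohLib.BaseChange

/-!
# Naturality of the flat base change of `Ext`
-/

set_option autoImplicit false
set_option linter.unusedSectionVars false
set_option maxHeartbeats 1000000

universe u

open CategoryTheory CategoryTheory.Limits HomologicalComplex
open Groth.Agent
open DTenLib.Point (hH sg)
open scoped TensorProduct

attribute [local instance] HasDerivedCategory.standard

noncomputable section

namespace BootDualLib

open Groth.Agent.DualCxLib FlatExtLib
open LocCohLib (tensF)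

variable {A : Type u} [CommRing A] (S : Type u) [CommRing S] [Algebra A S]

local notation "φS" => algebraMap A S

/-- Base change of scalars as a tensor product. -/
def extTens (M : ModuleCat.{u} A) :
    (ModuleCat.extendScalars.{u, u, u} φS).obj M ≅ (tensF A S).obj M := by
  let e := extEquiv (S := S) M
  let L : ((ModuleCat.extendScalars.{u, u, u} φS).obj M : ModuleCat.{u} S) →ₗ[S] S ⊗[A] M :=
    { toFun := fun x => e x
      map_add' := fun x y => map_add e x y
      map_smul' := fun b x => ?_ }
  · exact (LinearEquiv.ofBijective L e.bijective).toModuleIso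
  letI := Module.compHom S φS
  show e (b • x) = b • e x
  have key : ∀ y : ((ModuleCat.extendScalars.{u, u, u} φS).obj M : ModuleCat.{u} S),
      e (b • y) = b • e y := by
    intro y
    induction y using TensorProduct.induction_on with
    | zero =>
      exact (((congrArg e (smul_zero (A := ((ModuleCat.extendScalars.{u, u, u} φS).obj M : ModuleCat.{u} S)) b)).trans (map_zero e))).trans
        ((congrArg (b • ·) (map_zero e)).trans (smul_zero b)).symm
    | tmul s n => rfl
    | add x y hx hy =>
      exact ((congrArg e (smul_add (A := ((ModuleCat.extendScalars.{u, u, u} φS).obj M : ModuleCat.{u} S)) b x y)).trans (map_add e _ _)).trans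
        ((congrArg₂ (· + ·) hx hy).trans (((congrArg (b • ·) (map_add e x y)).trans (smul_add b _ _)).symm))
  exact key x

theorem extTens_natural {M N : ModuleCat.{u} A} (f : M ⟶ N) :
    (ModuleCat.extendScalars.{u, u, u} φS).map f ≫ (extTens S N).hom = (extTens S M).hom ≫ (tensF A S).map f := by
  refine ModuleCat.hom_ext (LinearMap.ext fun y => ?_)
  letI := Module.compHom S φS
  induction y using TensorProduct.induction_on with
  | zero => exact (map_zero _).trans (map_zero _).symm
  | tmul s n => rfl
  | add x y hx hy => exact (map_add _ x y).trans ((congrArg₂ (· + ·) hx hy).trans (map_add _ x y).symm)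

variable [Module.Flat A S]

/-- The complex concentrated in degree zero. -/
abbrev sglCx (M : ModuleCat.{u} A) : DRing.Cx A :=
  (HomologicalComplex.single (ModuleCat.{u} A) (ComplexShape.up ℤ) 0).obj M

/-- Base change of a module as a complex. -/
def cxIso (M : ModuleCat.{u} A) :
    (DRingLib.extCx φS).obj (sglCx M) ≅
      (HomologicalComplex.single (ModuleCat.{u} S) (ComplexShape.up ℤ) 0).obj ((tensF A S).obj M) :=
  (HomologicalComplex.singleMapHomologicalComplex
    (ModuleCat.extendScalars.{u, u, u} φS) (ComplexShape.up ℤ) 0).app M ≪≫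
    (HomologicalComplex.single (ModuleCat.{u} S) (ComplexShape.up ℤ) 0).mapIso (extTens S M)

theorem cxIso_natural {M N : ModuleCat.{u} A} (f : M ⟶ N) :
    (DRingLib.extCx φS).map ((HomologicalComplex.single (ModuleCat.{u} A) (ComplexShape.up ℤ) 0).map f) ≫
        (cxIso S N).hom =
      (cxIso S M).hom ≫ (HomologicalComplex.single (ModuleCat.{u} S) (ComplexShape.up ℤ) 0).map ((tensF A S).map f) := by
  show _ ≫ _ ≫ (HomologicalComplex.single (ModuleCat.{u} S) (ComplexShape.up ℤ) 0).map (extTens S N).hom =
    (_ ≫ (HomologicalComplex.single (ModuleCat.{u} S) (ComplexShape.up ℤ) 0).map (extTens S M).hom) ≫ _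
  rw [Category.assoc, ← Functor.map_comp, ← extTens_natural, Functor.map_comp]
  exact (reassoc_of% ((HomologicalComplex.singleMapHomologicalComplex
    (ModuleCat.extendScalars.{u, u, u} φS) (ComplexShape.up ℤ) 0).hom.naturality f)) _

/-- Base change of a module in the derived category. -/
def sglExt (M : ModuleCat.{u} A) :
    DerivedCategory.Q.obj ((DRingLib.extCx φS).obj (sglCx M)) ≅
      (DerivedCategory.singleFunctor (ModuleCat.{u} S) 0).obj ((tensF A S).obj M) :=
  DerivedCategory.Q.mapIso (cxIso S M) ≪≫
    ((DerivedCategory.singleFunctorIsoCompQ (ModuleCat.{u} S) 0).app ((tensF A S).obj M)).symm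

/-- The unit `M → S ⊗ M` in the derived category. -/
def unitSg (M : ModuleCat.{u} A) :
    (DerivedCategory.singleFunctor (ModuleCat.{u} A) 0).obj M ⟶
      (DRing.restrictD φS).obj ((DerivedCategory.singleFunctor (ModuleCat.{u} S) 0).obj ((tensF A S).obj M)) :=
  ((DerivedCategory.singleFunctorIsoCompQ (ModuleCat.{u} A) 0).app M).hom ≫ γ φS (sglCx M) ≫
    (DRing.restrictD φS).map (sglExt S M).hom

theorem isUniv_unitSg (M : ModuleCat.{u} A) : IsUniv φS (unitSg S M) :=
  (isUniv_γ_flat _).comp_iso ((DerivedCategory.singleFunctorIsoCompQ (ModuleCat.{u} A) 0).app M) (sglExt S M)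

theorem unitSg_natural {M N : ModuleCat.{u} A} (f : M ⟶ N) :
    (DerivedCategory.singleFunctor (ModuleCat.{u} A) 0).map f ≫ unitSg S N =
      unitSg S M ≫ (DRing.restrictD φS).map
        ((DerivedCategory.singleFunctor (ModuleCat.{u} S) 0).map ((tensF A S).map f)) := by
  let s : sglCx M ⟶ sglCx N := (HomologicalComplex.single (ModuleCat.{u} A) (ComplexShape.up ℤ) 0).map f
  have h1 : DerivedCategory.Q.map ((DRingLib.extCx φS).map s) ≫ (sglExt S N).hom =
      (sglExt S M).hom ≫ (DerivedCategory.singleFunctor (ModuleCat.{u} S) 0).map ((tensF A S).map f) := by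
    show DerivedCategory.Q.map _ ≫ DerivedCategory.Q.map (cxIso S N).hom ≫ _ =
      (DerivedCategory.Q.map (cxIso S M).hom ≫ _) ≫ _
    rw [← Category.assoc, ← Functor.map_comp, cxIso_natural, Functor.map_comp, Category.assoc, Category.assoc]
    exact congrArg (DerivedCategory.Q.map (cxIso S M).hom ≫ ·)
      ((DerivedCategory.singleFunctorIsoCompQ (ModuleCat.{u} S) 0).inv.naturality ((tensF A S).map f))
  show _ ≫ _ ≫ γ φS (sglCx N) ≫ _ = (_ ≫ γ φS (sglCx M) ≫ _) ≫ _
  rw [← Category.assoc]
  refine ((congrArg (· ≫ γ φS (sglCx N) ≫ _)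
    ((DerivedCategory.singleFunctorIsoCompQ (ModuleCat.{u} A) 0).hom.naturality f)).trans ?_)
  simp only [Category.assoc, Iso.app_hom]
  refine (Category.assoc _ _ _).trans ?_
  refine congrArg ((DerivedCategory.singleFunctorIsoCompQ (ModuleCat.{u} A) 0).hom.app M ≫ ·) ?_
  rw [← Functor.map_comp]
  refine (reassoc_of% (γ_naturality φS s)) _ |>.trans ?_
  rw [← Functor.map_comp, h1]

variable [IsNoetherianRing A]

/-- A map of finite modules kills `Ext` over `S` when it kills the base changed `Ext` over `A`. -/
theorem extMap_eq_zero_iff {ω : Dual.D A} {Z : Dual.D S}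
    {η : ω ⟶ (DRing.restrictD (algebraMap A S)).obj Z} {a : ℤ} (ha : ω.IsGE a) (hη : IsBC η) {M N : ModuleCat.{u} A}
    [Module.Finite A M] [Module.Finite A N] (f : M ⟶ N) (i : ℤ) :
    (∀ g : Ext Z ((tensF A S).obj N) i, extMap Z ((tensF A S).map f) i g = 0) ↔
      ∀ v : Ext ω N i, (1 : S) ⊗ₜ[A] (extMap ω f i v) = 0 := by
  have hA : ∀ j, Function.Bijective (bc (theta η) (ModuleCat.of A A) j) := fun j => by
    obtain ⟨F, hF⟩ := hη j
    exact bijective_bc_ring (theta η) j F F.bijective (map_add F) hF
  have hb := fun (P : ModuleCat.{u} A) [Module.Finite A P] =>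
    bijective_bc (theta η) ha (exists_isGE hη ha).1 hA P i
  let c := ((DRing.restrictD φS).commShiftIso i).app Z
  let ν : ∀ P : ModuleCat.{u} A, Ext Z ((tensF A S).obj P) i → Ext ((DRing.restrictD φS).obj Z) P i :=
    fun P g => unitSg S P ≫ (DRing.restrictD φS).map g ≫ c.hom
  have hν : ∀ P, Function.Bijective (ν P) := fun P => by
    refine ⟨fun g g' h => (isUniv_unitSg S P _).1 ?_, fun y => ?_⟩
    · have h' := congrArg (· ≫ c.inv) h
      simp only [ν, Category.assoc, Iso.hom_inv_id, Category.comp_id] at h'
      exact h'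
    · obtain ⟨g, hg⟩ := (isUniv_unitSg S P _).2 (y ≫ c.inv)
      refine ⟨g, ?_⟩
      show unitSg S P ≫ (DRing.restrictD φS).map g ≫ c.hom = y
      rw [← Category.assoc, show unitSg S P ≫ (DRing.restrictD φS).map g = y ≫ c.inv from hg, Category.assoc,
        Iso.inv_hom_id, Category.comp_id]
  have nat : ∀ g, ν M (extMap Z ((tensF A S).map f) i g) = extMap _ f i (ν N g) := fun g => by
    show unitSg S M ≫ (DRing.restrictD φS).map
      ((DerivedCategory.singleFunctor (ModuleCat.{u} S) 0).map ((tensF A S).map f) ≫ g) ≫ c.hom =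
      (DerivedCategory.singleFunctor (ModuleCat.{u} A) 0).map f ≫
        (unitSg S N ≫ (DRing.restrictD φS).map g ≫ c.hom)
    rw [Functor.map_comp, Category.assoc, ← Category.assoc (unitSg S M), ← unitSg_natural, Category.assoc]
  have h0 : ν M 0 = 0 := by
    show unitSg S M ≫ (DRing.restrictD φS).map 0 ≫ c.hom = 0
    rw [Functor.map_zero, zero_comp, comp_zero]
  constructor
  · intro h v
    obtain ⟨g, hg⟩ := (hν N).2 (bc (theta η) N i ((1 : S) ⊗ₜ v))
    refine (hb M).1 ?_
    rw [map_zero, ← LinearMap.lTensor_tmul, bc_extMap, ← hg, ← nat, h g, h0]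
  · intro h g
    obtain ⟨z, hz⟩ := (hb N).2 (ν N g)
    refine (hν M).1 ?_
    rw [nat, h0, ← hz, ← bc_extMap]
    refine (congrArg (bc (theta η) M i) ?_).trans (map_zero _)
    have : ∀ w : S ⊗[A] Ext ω N i, (extMap ω f i).lTensor S w = 0 := fun w => by
      induction w using TensorProduct.induction_on with
      | zero => exact map_zero _
      | tmul s v =>
        rw [LinearMap.lTensor_tmul, show s ⊗ₜ[A] extMap ω f i v = s • ((1 : S) ⊗ₜ[A] extMap ω f i v) by
          rw [TensorProduct.smul_tmul', smul_eq_mul, mul_one], h v, smul_zero]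
      | add x y hx hy => rw [map_add, hx, hy, add_zero]
    exact this z

end BootDualLib
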