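import Groth.Agent.BootDualLib.Cycle
import Groth.Agent.BootDualLib.NatBC
import Groth.Agent.LcFinLib.DualKill

/-!
Local duality for maps: killing `H^i_q` locally at `q` is killing `Ext^{deg q - i}` locally at `q`.
-/

set_option autoImplicit false
set_option linter.unusedSectionVars false
set_option maxHeartbeats 1000000
universe u

open CategoryTheory CategoryTheory.Limits
open Groth.Agent
open DTenLib.Point (hH sg)
open scoped TensorProduct

attribute [local instance] HasDerivedCategory.standard

noncomputable section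

namespace BootDualLib

open Groth.Agent.DualCxLib FlatExtLib LcFinLib
open LocCohLib (tensF)

variable {A : Type u} [CommRing A] [IsNoetherianRing A]

/-- Local duality for maps over a local ring. -/
theorem map_zero_iff_extMap_zero [IsLocalRing A] {ω : Dual.D A} (hω : Dual.IsDualizing A ω)
    (hn : Dual.IsNormalized A ω) {M N : ModuleCat.{u} A} [Module.Finite A M] [Module.Finite A N]
    (f : M ⟶ N) (i : ℕ) :
    (∀ y, ((localCohomology (IsLocalRing.maximalIdeal A) i).map f).hom y = 0) ↔
      ∀ g : Ext ω N (-(i : ℤ)), extMap ω f (-(i : ℤ)) g = 0 := by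
  obtain ⟨E, _, _, h, hE⟩ := InjHullLib.exists_injectiveHull (R := A) (IsLocalRing.ResidueField A)
  obtain ⟨T⟩ := nonempty_traces hω hn hE
  have hB : Module.Baer A E := Module.Baer.of_injective hE.isInjective
  have hpos : ∀ P : ModuleCat.{u} A, Subsingleton (Ext ω P 1) := fun P =>
    subsingleton_ext_pos hω hn P 1 (by omega)
  have hbij := fun (P : ModuleCat.{u} A) [Module.Finite A P] => map_bijective hω hn T hE hB hpos i P
  constructor
  · intro hzero g
    by_contra hg
    haveI := Ext_finite hω M (-(i : ℤ))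
    obtain ⟨W, _, _, _, ⟨e⟩⟩ := exists_small_model (A := A) (Ext ω (ModuleCat.of A M) (-(i : ℤ)))
    have hne : e.symm (extMap ω f (-(i : ℤ)) g) ≠ 0 := fun h0 => hg (by
      simpa using congrArg e h0)
    obtain ⟨χ, hχ⟩ : ∃ χ : W →ₗ[A] E, χ (e.symm (extMap ω f (-(i : ℤ)) g)) ≠ 0 := by
      by_contra! hall
      exact hne (InjHullLib.applyₗ_injective_local hE (LinearMap.ext fun χ =>
        (hall χ).trans (LinearMap.congr_fun (map_zero (LinearMap.applyₗ : W →ₗ[A] (W →ₗ[A] E) →ₗ[A] E)) χ).symm))
    obtain ⟨y, hy⟩ := (hbij M).2 (χ ∘ₗ e.symm.toLinearMap)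
    refine hχ ?_
    have h1 := T.map_natural hB hpos i f y g
    rw [hzero y, map_zero] at h1
    exact (LinearMap.congr_fun hy (extMap ω f (-(i : ℤ)) g)).symm.trans h1.symm
  · intro hzero y
    refine (hbij N).1 (LinearMap.ext fun g => ?_)
    rw [map_zero, T.map_natural hB hpos i f y g, hzero g, map_zero]
    rfl

/-- Vanishing after base change to the local ring at `q`. -/
theorem one_tmul_eq_zero_iff (q : PrimeSpectrum A) {V : Type*} [AddCommGroup V] [Module A V] (v : V) :
    (1 : Localization.AtPrime q.asIdeal) ⊗ₜ[A] v = 0 ↔ ∃ s ∉ q.asIdeal, s • v = 0 := by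
  haveI : IsLocalizedModule q.asIdeal.primeCompl (TensorProduct.mk A (Localization.AtPrime q.asIdeal) V 1) :=
    (isLocalizedModule_iff_isBaseChange q.asIdeal.primeCompl (Localization.AtPrime q.asIdeal) _).2
      (TensorProduct.isBaseChange A V _)
  refine (IsLocalizedModule.eq_zero_iff q.asIdeal.primeCompl
    (TensorProduct.mk A (Localization.AtPrime q.asIdeal) V 1)).trans ⟨?_, ?_⟩
  · rintro ⟨s, hs⟩
    exact ⟨s, s.2, hs⟩
  · rintro ⟨s, hs, h⟩
    exact ⟨⟨s, hs⟩, h⟩

theorem exists_loc_bc (q : PrimeSpectrum A) (ω : Dual.D A) :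
    ∃ (Z : Dual.D (Localization.AtPrime q.asIdeal))
      (η : ω ⟶ (DRing.restrictD (algebraMap A (Localization.AtPrime q.asIdeal))).obj Z),
      IsUniv (algebraMap A (Localization.AtPrime q.asIdeal)) η ∧
      IsLocH (algebraMap A (Localization.AtPrime q.asIdeal)) q.asIdeal.primeCompl η ∧ IsBC η := by
  haveI : Module.Flat A (Localization.AtPrime q.asIdeal) := IsLocalization.flat _ q.asIdeal.primeCompl
  let P := DerivedCategory.Q.objPreimage ω
  let e : DerivedCategory.Q.obj P ≅ ω := DerivedCategory.Q.objObjPreimageIso ω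
  exact ⟨_, _, (isUniv_γ q.asIdeal.primeCompl P).comp_iso e.symm (Iso.refl _),
    (isLocH_γ q.asIdeal.primeCompl P).comp_iso e.symm (Iso.refl _), (isBC_γ P).comp_iso e.symm (Iso.refl _)⟩

/-- Local duality at a prime, for maps. -/
theorem locZero_iff_ext {ω : Dual.D A} (hω : Dual.IsDualizing A ω) (q : PrimeSpectrum A)
    {M N : ModuleCat.{u} A} [Module.Finite A M] [Module.Finite A N] (f : M ⟶ N) (i : ℕ) :
    LocZero q i f ↔
      ∀ v : Ext ω N (deg hω q - i), ∃ s ∉ q.asIdeal, s • extMap ω f (deg hω q - i) v = 0 := by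
  let B := Localization.AtPrime q.asIdeal
  haveI : Module.Flat A B := IsLocalization.flat _ q.asIdeal.primeCompl
  haveI : IsNoetherianRing B := IsLocalization.isNoetherianRing q.asIdeal.primeCompl _ inferInstance
  obtain ⟨Z, η, hU, hL, hη⟩ := exists_loc_bc q ω
  obtain ⟨a₀, ha₀⟩ := isGE_dualizing hω
  set d := deg hω q with hd
  have hZ := isDualizing_loc q.asIdeal.primeCompl hω hU hL
  have hZn := isDualizing_shift hZ d
  let ek : B ⊗[A] (A ⧸ q.asIdeal) ≃ₗ[B] B ⧸ IsLocalRing.maximalIdeal B :=
    (Algebra.TensorProduct.quotIdealMapEquivTensorQuot B q.asIdeal).symm.toLinearEquiv.trans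
      (Submodule.quotEquivOfEq _ _ Localization.AtPrime.map_eq_maximalIdeal)
  have hn : Dual.IsNormalized B (Z⟦d⟧) := fun j hj => by
    refine (postcompL _ (shift₂ Z d j _ rfl)).toEquiv.subsingleton_congr.2 ?_
    obtain ⟨E⟩ := nonempty_ext_bc ha₀ hη (A ⧸ q.asIdeal) (d + j)
    haveI : Subsingleton (B ⊗[A] Ext ω (ModuleCat.of A (A ⧸ q.asIdeal)) (d + j)) := by
      refine subsingleton_of_forall_eq 0 fun z => ?_
      induction z using TensorProduct.induction_on with
      | zero => rfl
      | tmul s v =>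
        rw [show s ⊗ₜ[A] v = s • ((1 : B) ⊗ₜ[A] v) by rw [TensorProduct.smul_tmul', smul_eq_mul, mul_one],
          (one_tmul_eq_zero_iff q v).2 ((isDeg_deg hω q).1 (d + j) (by omega) v), smul_zero]
      | add x y hx hy => rw [hx, hy, add_zero]
    haveI := E.symm.toEquiv.subsingleton
    exact (precompL ((DerivedCategory.singleFunctor (ModuleCat.{u} B) 0).mapIso ek.toModuleIso)
      (Z⟦(d + j)⟧)).symm.toEquiv.subsingleton
  rw [locZero_iff q (lcGD q.asIdeal)]
  change (∀ x : (localCohomology q.asIdeal i).obj M,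
    ∃ s ∉ q.asIdeal, s • ((localCohomology q.asIdeal i).map f).hom x = 0) ↔ _
  simp_rw [← one_tmul_eq_zero_iff]
  refine Iff.trans ?_ ((extMap_eq_zero_iff B ha₀ hη f (d - i)))
  haveI : Module.Finite B ((tensF A B).obj M) := inferInstanceAs (Module.Finite B (B ⊗[A] M))
  haveI : Module.Finite B ((tensF A B).obj N) := inferInstanceAs (Module.Finite B (B ⊗[A] N))
  have hd2 := map_zero_iff_extMap_zero hZn hn ((tensF A B).map f) i
  have hshift : (∀ g : Ext (Z⟦d⟧) ((tensF A B).obj N) (-(i : ℤ)),
      extMap (Z⟦d⟧) ((tensF A B).map f) (-(i : ℤ)) g = 0) ↔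
      ∀ g : Ext Z ((tensF A B).obj N) (d - i), extMap Z ((tensF A B).map f) (d - i) g = 0 := by
    let e := shift₂ Z d (-(i : ℤ)) (d - i) (by omega)
    constructor
    · intro h g
      obtain ⟨g', rfl⟩ := (postcompL _ e).surjective g
      refine Eq.trans ?_ ((congrArg (postcompL _ e) (h g')).trans (map_zero _))
      simp [postcompL, Linear.homCongr_apply]
    · intro h g
      refine (postcompL _ e).injective ?_
      rw [map_zero]
      refine Eq.trans ?_ (h (postcompL _ e g))
      simp [postcompL, Linear.homCongr_apply]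
  refine Iff.trans ?_ (hd2.trans hshift)
  let K : Ideal B := q.asIdeal.map (algebraMap A B)
  have hK : K = IsLocalRing.maximalIdeal B := Localization.AtPrime.map_eq_maximalIdeal
  refine Iff.trans ?_ (show (∀ y, ((localCohomology K i).map ((tensF A B).map f)).hom y = 0) ↔
    (∀ y, ((localCohomology (IsLocalRing.maximalIdeal B) i).map ((tensF A B).map f)).hom y = 0) by rw [hK])
  let τ := LocCohLib.tensLcIso (R' := B) q.asIdeal i
  constructor
  · intro h y
    obtain ⟨z, rfl⟩ := (τ.app M).toLinearEquiv.surjective y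
    refine (congr($(τ.hom.naturality f).hom z)).symm.trans ?_
    suffices hz : (((localCohomology q.asIdeal i).map f).hom.baseChange B) z = 0 by
      exact (congrArg (τ.hom.app N).hom hz).trans (map_zero _)
    induction z using TensorProduct.induction_on with
    | zero => exact map_zero _
    | tmul s x =>
      rw [LinearMap.baseChange_tmul, show s ⊗ₜ[A] ((localCohomology q.asIdeal i).map f).hom x =
        s • ((1 : B) ⊗ₜ[A] ((localCohomology q.asIdeal i).map f).hom x) by
          rw [TensorProduct.smul_tmul', smul_eq_mul, mul_one]]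
      exact (congrArg (s • ·) (h x)).trans (smul_zero _)
    | add x y hx hy => exact (map_add _ x y).trans (by rw [hx, hy, add_zero])
  · intro h x
    refine (τ.app N).toLinearEquiv.injective (Eq.trans ?_ (map_zero (τ.app N).toLinearEquiv).symm)
    exact (congr($(τ.hom.naturality f).hom ((1 : B) ⊗ₜ[A] x))).trans (h _)

end BootDualLib
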