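import Groth.Agent.BootDualLib.Descent

/-!
Consequences of the pro-vanishing of `H^i_T(I^n M)`.
-/

set_option autoImplicit false
set_option linter.style.haveILetI false
set_option linter.unusedSectionVars false
set_option maxHeartbeats 1000000

universe u

open CategoryTheory CategoryTheory.Limits
open Groth.Agent Groth.Agent.DRingLib

attribute [local instance] HasDerivedCategory.standard

noncomputable section

namespace BootDualLib

variable {A : Type u} [CommRing A] [IsNoetherianRing A] (I : Ideal A) (M : Type u) [AddCommGroup M] [Module A M] [Module.Finite A M]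
  (T : Set (PrimeSpectrum A))

/-- `H^i_T`. -/
abbrev HTf (i : ℕ) : ModuleCat.{u} A ⥤ ModuleCat.{u} A :=
  localCohomology.ofDiagram.{u, u} (Dual2.idealsInDiagram T) i

/-- The system `H^i_T(I^n M)` is pro-zero. -/
def ProZero (i : ℕ) : Prop :=
  ∀ n, ∃ (m : ℕ) (h : n ≤ m), ∀ x : (HTf T i).obj (pw I M m), ((HTf T i).map (incl I M h)).hom x = 0

/-- `I^n M → M`. -/
abbrev sub (n : ℕ) : pw I M n ⟶ ModuleCat.of A M :=
  ModuleCat.ofHom (I ^ n • ⊤ : Submodule A M).subtype

/-- `0 → I^n M → M → M/I^n M → 0`. -/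
def sesP (n : ℕ) : ShortComplex (ModuleCat.{u} A) :=
  ShortComplex.mk (sub I M n) (mqπ I M n) (by
    ext ⟨q, hq⟩
    exact (Submodule.Quotient.mk_eq_zero _).2 hq)

theorem sesP_shortExact (n : ℕ) : (sesP I M n).ShortExact where
  exact := (ShortComplex.moduleCat_exact_iff _).2 fun q hq =>
    ⟨⟨q, (Submodule.Quotient.mk_eq_zero _).1 hq⟩, rfl⟩
  mono_f := (ModuleCat.mono_iff_injective _).2 Subtype.val_injective
  epi_g := (ModuleCat.epi_iff_surjective _).2 (Submodule.mkQ_surjective _)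

/-- The map of sequences. -/
def sesPMap {n m : ℕ} (h : n ≤ m) : sesP I M m ⟶ sesP I M n where
  τ₁ := incl I M h
  τ₂ := 𝟙 _
  τ₃ := mqT I M h
  comm₁₂ := rfl
  comm₂₃ := rfl

variable {I M T}

/-- The connecting map vanishes after a deep transition. -/
theorem exists_mem_range {i : ℕ} (h1 : ProZero I M T (i + 1)) (n : ℕ) :
    ∃ (m : ℕ) (h : n ≤ m), ∀ (l : ℕ) (hl : m ≤ l) (w : (HTf T i).obj (Mq I M l)),
      ∃ x, ((HTf T i).map (mqπ I M n)).hom x = ((HTf T i).map (mqT I M (h.trans hl))).hom w := by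
  obtain ⟨m, h, hm⟩ := h1 n
  refine ⟨m, h, fun l hl w => ?_⟩
  let D := LcFinLib.htDelta T
  refine (ShortComplex.moduleCat_exact_iff _).1 (D.exact₃ (sesP_shortExact I M n) i)
    (((HTf T i).map (mqT I M (h.trans hl))).hom w) ?_
  refine (congr($(D.δ_natural (sesP_shortExact I M l) (sesP_shortExact I M n) (sesPMap I M (h.trans hl)) i).hom w)).symm.trans ?_
  change ((HTf T (i + 1)).map (incl I M (h.trans hl))).hom _ = 0
  rw [← incl_comp I M h hl, Functor.map_comp]
  exact hm _

/-- `H^i_T M → H^i_T(M/I^n M)` is injective for large `n`. -/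
theorem exists_injective {i : ℕ} (h0 : ProZero I M T i) :
    ∃ m : ℕ, (∀ n, m ≤ n → ∀ x : (HTf T i).obj (ModuleCat.of A M),
      ((HTf T i).map (mqπ I M n)).hom x = 0 → x = 0) ∧
      ∀ y : (HTf T i).obj (pw I M m), ((HTf T i).map (sub I M m)).hom y = 0 := by
  obtain ⟨m, h, hm⟩ := h0 0
  have hz : ∀ n (hn : m ≤ n) (y : (HTf T i).obj (pw I M n)), ((HTf T i).map (sub I M n)).hom y = 0 := fun n hn y => by
    rw [show sub I M n = incl I M hn ≫ incl I M h ≫ sub I M 0 from rfl, Functor.map_comp, Functor.map_comp]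
    exact (congrArg ((HTf T i).map (sub I M 0)).hom (hm _)).trans (map_zero _)
  refine ⟨m, fun n hn x hx => ?_, hz m le_rfl⟩
  haveI := (LcFinLib.htDelta T).preservesZero i
  obtain ⟨y, hy⟩ := (ShortComplex.moduleCat_exact_iff _).1 ((LcFinLib.htDelta T).exact₂ (sesP_shortExact I M n) i) x hx
  exact hy.symm.trans (hz n hn y)

/-- Compatible families lift, uniquely. -/
theorem exists_lift {i : ℕ} (h0 : ProZero I M T i) (h1 : ProZero I M T (i + 1))
    (y : ∀ n, (HTf T i).obj (Mq I M n))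
    (hy : ∀ n, ((HTf T i).map (mqT I M (Nat.le_succ n))).hom (y (n + 1)) = y n) :
    ∃ x, ∀ n, ((HTf T i).map (mqπ I M n)).hom x = y n := by
  have hcompat : ∀ n m (h : n ≤ m), ((HTf T i).map (mqT I M h)).hom (y m) = y n := by
    intro n m h
    induction h with
    | refl => rw [mqT_refl, CategoryTheory.Functor.map_id]; rfl
    | @step m h ih =>
      rw [← mqT_T I M h (Nat.le_succ m), Functor.map_comp]
      exact (congrArg ((HTf T i).map (mqT I M h)).hom (hy m)).trans ih
  have hx : ∀ n, ∃ x, ((HTf T i).map (mqπ I M n)).hom x = y n := fun n => by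
    obtain ⟨m, h, hm⟩ := exists_mem_range h1 n
    obtain ⟨x, hx⟩ := hm m le_rfl (y m)
    exact ⟨x, hx.trans (hcompat n m h)⟩
  choose x hx using hx
  obtain ⟨N, hN, -⟩ := exists_injective h0
  have hπ : ∀ n m (h : n ≤ m), ((HTf T i).map (mqπ I M n)).hom (x m) = y n := fun n m h => by
    rw [← mqπ_T I M h, Functor.map_comp]
    exact (congrArg ((HTf T i).map (mqT I M h)).hom (hx m)).trans (hcompat n m h)
  refine ⟨x N, fun n => ?_⟩
  have : x (max n N) = x N := sub_eq_zero.1 (hN N le_rfl _ (by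
    rw [map_sub, hx N, hπ N _ (le_max_right n N), sub_self]))
  rw [← this, hπ n _ (le_max_left n N)]

/-- A power of `I` kills `H^i_T M`. -/
theorem exists_pow_smul {i : ℕ} (h0 : ProZero I M T i) :
    ∃ n : ℕ, ∀ a ∈ I ^ n, ∀ x : (HTf T i).obj (ModuleCat.of A M), a • x = 0 := by
  obtain ⟨m, -, hm⟩ := exists_injective h0
  refine ⟨m, fun a ha x => ?_⟩
  let f : ModuleCat.of A M ⟶ pw I M m := ModuleCat.ofHom
    ((a • LinearMap.id : M →ₗ[A] M).codRestrict _ fun v => Submodule.smul_mem_smul ha Submodule.mem_top)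
  have h : a • 𝟙 (ModuleCat.of A M) = f ≫ sub I M m := rfl
  have h2 := (LcFinLib.htGD T).map_smul_id a i (ModuleCat.of A M)
  refine (congr($(h2).hom x)).symm.trans ?_
  show ((HTf T i).map (a • 𝟙 (ModuleCat.of A M))).hom x = 0
  rw [h, Functor.map_comp]
  exact hm _

/-- Mittag-Leffler. -/
theorem exists_range_eq {i : ℕ} (h1 : ProZero I M T (i + 1)) (n : ℕ) :
    ∃ (k : ℕ) (hk : n ≤ k), ∀ (l : ℕ) (hl : k ≤ l),
      Set.range ((HTf T i).map (mqT I M (hk.trans hl))).hom = Set.range ((HTf T i).map (mqT I M hk)).hom := by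
  obtain ⟨k, hk, h⟩ := exists_mem_range h1 n
  have key : ∀ (l : ℕ) (hl : k ≤ l), Set.range ((HTf T i).map (mqT I M (hk.trans hl))).hom =
      Set.range ((HTf T i).map (mqπ I M n)).hom := fun l hl => by
    refine Set.Subset.antisymm ?_ ?_
    · rintro _ ⟨w, rfl⟩
      obtain ⟨x, hx⟩ := h l hl w
      exact ⟨x, hx⟩
    · rintro _ ⟨x, rfl⟩
      refine ⟨((HTf T i).map (mqπ I M l)).hom x, ?_⟩
      exact (congr($((HTf T i).map_comp (mqπ I M l) (mqT I M (hk.trans hl))).hom x)).symm.trans rfl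
  exact ⟨k, hk, fun l hl => (key l hl).trans (key k le_rfl).symm⟩

end BootDualLib

end
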