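import Groth.Agent.LcCompLib.Bridge
import Groth.Agent.DRingLib.RgammaRlim
import Mathlib.CategoryTheory.CommSq

/-!
`H^i(RΓ_J M) ≅ H^i_J(M)`, naturally in the module `M`.
-/

set_option autoImplicit false
set_option linter.style.haveILetI false
set_option linter.unusedSectionVars false
set_option maxHeartbeats 1600000

universe u v u'

open CategoryTheory CategoryTheory.Limits HomologicalComplex

attribute [local instance] HasDerivedCategory.standard

noncomputable section

namespace BootDualLib

open Groth.Agent Groth.Agent.DRingLib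

section Extend

variable {C : Type u'} [Category.{v} C] [Abelian C] {D : Type u'} [Category.{v} D] [Abelian D]
  (S : C ⥤ D) [S.Additive]

theorem mapExtendIso_natural {K L : CochainComplex C ℕ} (φ : K ⟶ L) :
    (S.mapHomologicalComplex _).map (extendMap φ ComplexShape.embeddingUpNat) ≫
        (LcCompLib.mapExtendIso S L).hom =
      (LcCompLib.mapExtendIso S K).hom ≫
        extendMap ((S.mapHomologicalComplex _).map φ) ComplexShape.embeddingUpNat := by
  ext n
  by_cases h : 0 ≤ n
  · have hi : ComplexShape.embeddingUpNat.f n.toNat = n := by simp; lia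
    simp only [comp_f, Functor.mapHomologicalComplex_map_f, LcCompLib.mapExtendIso,
      Hom.isoOfComponents_hom_f, LcCompLib.mapExtendXIso, dif_pos h, extendMap_f _ _ hi, Iso.trans_hom,
      Iso.symm_hom, Functor.mapIso_hom, Functor.map_comp, Category.assoc]
    have e1 := (S.mapIso (L.extendXIso ComplexShape.embeddingUpNat hi)).inv_hom_id
    simp only [Functor.mapIso_inv, Functor.mapIso_hom] at e1
    refine (Category.assoc _ _ _).trans (congrArg (_ ≫ ·) ?_) |>.trans (Category.assoc _ _ _).symm
    refine (Category.assoc _ _ _).trans ?_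
    refine (congrArg (S.map (φ.f n.toNat) ≫ ·) ((reassoc_of% e1) _)).trans ?_
    exact (Iso.inv_hom_id_assoc _ _).symm
  · exact (S.map_isZero (K.isZero_extend_X ComplexShape.embeddingUpNat n
      (by intro i hi; simp at hi; lia))).eq_of_src _ _

end Extend

variable {A : Type u} [CommRing A] [IsNoetherianRing A] (J : Ideal A) [DRing.HasRgammaI J]

section App

variable (M : ModuleCat.{u} A)

/-- The injective resolution as a complex. -/
abbrev resCx : CochainComplex (ModuleCat.{u} A) ℤ := (injectiveResolution M).cochainComplex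

/-- The resolution represents the module. -/
def qResIso : DerivedCategory.Qh.obj ((HomotopyCategory.quotient _ _).obj (resCx M)) ≅ sF.obj M :=
  (DerivedCategory.quotientCompQhIso (ModuleCat.{u} A)).app (resCx M) ≪≫
    (asIso (DerivedCategory.Q.map (injectiveResolution M).ι')).symm

/-- The unit of the derived torsion functor. -/
abbrev unitR := (DRing.gammaIKh J).totalRightDerivedUnit DerivedCategory.Qh
  (HomotopyCategory.quasiIso (ModuleCat.{u} A) (ComplexShape.up ℤ))

instance isIso_unitR :
    IsIso ((unitR J).app ((HomotopyCategory.quotient _ _).obj (resCx M))) :=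
  haveI : (resCx M).IsKInjective := CochainComplex.isKInjective_of_injective _ 0
  DerLib.KInjDerived.isIso_app (DRing.RgammaI J) (unitR J) (DerLib.KInjDerived.enoughKInj _) (resCx M)

/-- `H^i(RΓ_J M) ≅ H^i_J(M)`. -/
def rgIsoApp (i : ℕ) : (hF A (i : ℤ)).obj ((DRing.RgammaI J).obj (sF.obj M)) ≅ (localCohomology J i).obj M :=
  (hF A (i : ℤ)).mapIso ((DRing.RgammaI J).mapIso (qResIso M).symm) ≪≫
    (hF A (i : ℤ)).mapIso (asIso ((unitR J).app ((HomotopyCategory.quotient _ _).obj (resCx M)))).symm ≪≫
    (hF A (i : ℤ)).mapIso (DerivedCategory.Qh.mapIso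
      (((DRing.gammaI J).mapHomotopyCategoryFactors (ComplexShape.up ℤ)).app (resCx M))) ≪≫
    (hF A (i : ℤ)).mapIso ((DerivedCategory.quotientCompQhIso _).app _) ≪≫
    (DerivedCategory.homologyFunctorFactors (ModuleCat.{u} A) (i : ℤ)).app _ ≪≫
    (HomologicalComplex.homologyFunctor _ _ (i : ℤ)).mapIso
      (LcCompLib.mapExtendIso (DRing.gammaI J) (injectiveResolution M).cocomplex) ≪≫
    (((DRing.gammaI J).mapHomologicalComplex (ComplexShape.up ℕ)).obj
      (injectiveResolution M).cocomplex).extendHomologyIso ComplexShape.embeddingUpNat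
        (j := i) (j' := (i : ℤ)) (by simp) ≪≫
    ((injectiveResolution M).isoRightDerivedObj (DRing.gammaI J) i).symm ≪≫
    (IdealTransLib.rdGammaIso J i).app M

end App

theorem rgIsoApp_natural {M N : ModuleCat.{u} A} (f : M ⟶ N) (i : ℕ) :
    (hF A (i : ℤ)).map ((DRing.RgammaI J).map (sF.map f)) ≫ (rgIsoApp J N i).hom =
      (rgIsoApp J M i).hom ≫ (localCohomology J i).map f := by
  let φ : InjectiveResolution.Hom (injectiveResolution M) (injectiveResolution N) f :=
    { hom := InjectiveResolution.desc f (injectiveResolution N) (injectiveResolution M)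
      ι_f_zero_comp_hom_f_zero := congrArg (fun g : (CochainComplex.single₀ (ModuleCat.{u} A)).obj M ⟶ (injectiveResolution N).cocomplex => g.f 0)
        (InjectiveResolution.desc_commutes f (injectiveResolution N) (injectiveResolution M)) }
  let q := (HomotopyCategory.quotient (ModuleCat.{u} A) (ComplexShape.up ℤ)).map φ.hom'
  have h1 : CommSq (sF.map f) (qResIso M).inv (qResIso N).inv (DerivedCategory.Qh.map q) := by
    refine ⟨?_⟩
    simp only [qResIso, Iso.trans_inv, Iso.symm_inv, asIso_hom, Iso.app_inv, Category.assoc]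
    have h2 : DerivedCategory.Q.map (injectiveResolution M).ι' ≫ DerivedCategory.Q.map φ.hom' =
        sF.map f ≫ DerivedCategory.Q.map (injectiveResolution N).ι' := by
      rw [← Functor.map_comp, InjectiveResolution.Hom.ι'_comp_hom', Functor.map_comp]
      rfl
    refine (Category.assoc _ _ _).symm.trans ((congrArg (· ≫ _) h2.symm).trans ?_)
    refine (Category.assoc _ _ _).trans ?_
    exact congrArg (DerivedCategory.Q.map (injectiveResolution M).ι' ≫ ·)
      ((DerivedCategory.quotientCompQhIso (ModuleCat.{u} A)).inv.naturality φ.hom')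
  have h2 : CommSq ((DRing.RgammaI J).map (DerivedCategory.Qh.map q))
      (inv ((unitR J).app ((HomotopyCategory.quotient _ _).obj (resCx M))))
      (inv ((unitR J).app ((HomotopyCategory.quotient _ _).obj (resCx N))))
      ((DRing.gammaIKh J).map q) := by
    refine ⟨?_⟩
    rw [IsIso.comp_inv_eq, Category.assoc, IsIso.eq_inv_comp]
    exact ((unitR J).naturality q).symm
  have h3 : CommSq ((DRing.gammaIKh J).map q)
      (DerivedCategory.Qh.map (((DRing.gammaI J).mapHomotopyCategoryFactors (ComplexShape.up ℤ)).hom.app (resCx M)))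
      (DerivedCategory.Qh.map (((DRing.gammaI J).mapHomotopyCategoryFactors (ComplexShape.up ℤ)).hom.app (resCx N)))
      (DerivedCategory.Qh.map ((HomotopyCategory.quotient _ _).map
        (((DRing.gammaI J).mapHomologicalComplex _).map φ.hom'))) :=
    (CommSq.mk (((DRing.gammaI J).mapHomotopyCategoryFactors (ComplexShape.up ℤ)).hom.naturality φ.hom')).map
      DerivedCategory.Qh
  have h4 : CommSq (DerivedCategory.Qh.map ((HomotopyCategory.quotient _ _).map
        (((DRing.gammaI J).mapHomologicalComplex _).map φ.hom')))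
      ((DerivedCategory.quotientCompQhIso _).hom.app _) ((DerivedCategory.quotientCompQhIso _).hom.app _)
      (DerivedCategory.Q.map (((DRing.gammaI J).mapHomologicalComplex _).map φ.hom')) :=
    ⟨(DerivedCategory.quotientCompQhIso (ModuleCat.{u} A)).hom.naturality _⟩
  have h5 : CommSq ((hF A (i : ℤ)).map (DerivedCategory.Q.map (((DRing.gammaI J).mapHomologicalComplex _).map φ.hom')))
      ((DerivedCategory.homologyFunctorFactors (ModuleCat.{u} A) (i : ℤ)).hom.app _)
      ((DerivedCategory.homologyFunctorFactors (ModuleCat.{u} A) (i : ℤ)).hom.app _)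
      ((HomologicalComplex.homologyFunctor _ _ (i : ℤ)).map
        (((DRing.gammaI J).mapHomologicalComplex _).map φ.hom')) :=
    ⟨(DerivedCategory.homologyFunctorFactors (ModuleCat.{u} A) (i : ℤ)).hom.naturality _⟩
  have h6 := (CommSq.mk (mapExtendIso_natural (DRing.gammaI J) φ.hom)).map
    (HomologicalComplex.homologyFunctor (ModuleCat.{u} A) (ComplexShape.up ℤ) (i : ℤ))
  have h7 := CommSq.mk (extendHomologyIso_hom_naturality
    ((((DRing.gammaI J).mapHomologicalComplex (ComplexShape.up ℕ))).map φ.hom)
    ComplexShape.embeddingUpNat (j := i) (j' := (i : ℤ)) (by simp))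
  have h8 := CommSq.mk (InjectiveResolution.isoRightDerivedObj_inv_naturality f (injectiveResolution M)
    (injectiveResolution N) φ.hom φ.ι_f_zero_comp_hom_f_zero (DRing.gammaI J) i).symm
  have h9 := CommSq.mk ((IdealTransLib.rdGammaIso J i).hom.naturality f)
  exact ((h1.map (DRing.RgammaI J)).map (hF A (i : ℤ))).vert_comp ((h2.map (hF A (i : ℤ))).vert_comp
    ((h3.map (hF A (i : ℤ))).vert_comp ((h4.map (hF A (i : ℤ))).vert_comp (h5.vert_comp
      (h6.vert_comp (h7.vert_comp (h8.vert_comp h9))))))) |>.w

/-- `H^i ∘ RΓ_J ≅ H^i_J` on modules. -/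
def rgIso (i : ℕ) : sF ⋙ DRing.RgammaI J ⋙ hF A (i : ℤ) ≅ localCohomology J i :=
  NatIso.ofComponents (fun M => rgIsoApp J M i) fun f => rgIsoApp_natural J f i

/-- No cohomology in negative degrees. -/
theorem isZero_hF_RgammaI_neg (M : ModuleCat.{u} A) (j : ℤ) (hj : j < 0) :
    IsZero ((hF A j).obj ((DRing.RgammaI J).obj (sF.obj M))) :=
  @ModuleCat.isZero_of_subsingleton _ _ _ ((LcCompLib.nonempty_HD_RgammaI_inD J M).2 j hj)

end BootDualLib

end
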